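import Cfsg.Agent.Lib.Invol.Co1.Five.Sides

/-!
# The centralizer of a five-element in the centralizer of the involution
-/

set_option autoImplicit false
set_option maxRecDepth 100000
set_option linter.unusedSectionVars false

namespace Cfsg.Agent.Invol.Co1.Five

open Cfsg.Agent.Classical.BinCoc Cfsg.Agent.Invol.Big Cfsg.Agent.Invol.Big.Code

variable {G : Type*} [Group G] [Finite G] {z : G} {Q : Subgroup G} {cd : G → ℕ}

/-- A five-element fixing the first solid. -/
structure Five (h : Code K8 z Q cd) (b : G) : Prop where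
  comm : b * z = z * b
  pow : b ^ 5 = 1
  ne : b ≠ 1
  rel : ∃ τ, Rel h b τ ∧ τ true = 1 ∧ τ false ≠ 1

variable {h : Code K8 z Q cd} {b : G}

theorem Five.order (F : Five h b) : orderOf b = 5 := by
  haveI : Fact (Nat.Prime 5) := ⟨by norm_num⟩
  exact orderOf_eq_prime F.pow F.ne

theorem Five.memY (F : Five h b) : b ∈ Y h true := by
  obtain ⟨τ, hτ, h1, -⟩ := F.rel
  exact mem_Y.2 ⟨F.comm, fun x hx hxs => (fix_commute F.comm F.pow hx (hτ.fix_spn h1 hxs)).symm⟩

theorem not_Q_five (h : Code K8 z Q cd) {x : G} (hx : x ∈ Q) (h5 : x ^ 5 = 1) : x = 1 := by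
  rcases h.ext.sq x hx with e | e
  · rwa [show (5 : ℕ) = 2 + 2 + 1 from rfl, pow_succ, pow_add, pow_two, e, one_mul, one_mul] at h5
  · rw [show (5 : ℕ) = 2 + 2 + 1 from rfl, pow_succ, pow_add, pow_two, e, h.ext.zz, one_mul] at h5
    exact h5

/-- Every five-element with a fixed vector is conjugate to one fixing the first solid. -/
theorem exists_std (hcard : Nat.card (Subgroup.centralizer ({z} : Set G)) = 42525 * (2 ^ 12 * Nat.card Q))
    (hQ : Nat.card Q = 512) {b : G} (hb : b * z = z * b) (hb5 : b ^ 5 = 1) (hb1 : b ≠ 1)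
    {x : G} (hx : x ∈ Q) (hx0 : cd x ≠ 0) (hbx : b * x = x * b) :
    ∃ c, c * z = z * c ∧ Five h (c * b * c⁻¹) := by
  classical
  haveI : Fact (Nat.Prime 5) := ⟨by norm_num⟩
  obtain ⟨u, σu, hu, hus, hu', hu5, -⟩ := exists_five h true cyc_ok.1 cyc_ok.2.1
  obtain ⟨v, σv, hv, hvs, hv', hv5, -⟩ := exists_five h false cyc_ok.1 cyc_ok.2.1
  set C := Subgroup.centralizer ({z} : Set G)
  let S : Subgroup G :=
    { carrier := {c | ∃ σ, Rel h c σ}
      mul_mem' := fun ⟨_, a⟩ ⟨_, b⟩ => ⟨_, a.mul b⟩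
      one_mem' := ⟨_, Rel.one⟩
      inv_mem' := fun ⟨_, a⟩ => ⟨_, a.inv⟩ }
  choose ρ hρ using fun c : S => c.2
  let ψ : S →* (Bool → Equiv.Perm (Fin 5)) := MonoidHom.mk' ρ fun a b => (hρ (a * b)).unique ((hρ a).mul (hρ b))
  have hψu : ψ ⟨u, _, hu⟩ = σu := (hρ _).unique hu
  have hψv : ψ ⟨v, _, hv⟩ = σv := (hρ _).unique hv
  have hσ : ∀ {t : Bool} {σ : Bool → Equiv.Perm (Fin 5)}, σ t = 1 → σ (!t) = cyc →
      σ ^ 5 = 1 ∧ σ ≠ 1 := fun {t σ} e1 e2 => ⟨funext fun r => by
        by_cases k : r = t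
        · subst k; simp [e1]
        · obtain rfl : r = !t := by cases r <;> cases t <;> simp_all
          simp [e2, cyc_ok.1], fun e => cyc_ok.2.1 (by rw [← e2, e]; rfl)⟩
  have h25 : 5 ^ 2 ∣ Nat.card S := by
    refine dvd_trans ?_ (Subgroup.card_range_dvd ψ)
    have hcu : orderOf σu = 5 := orderOf_eq_prime (hσ hus hu').1 (hσ hus hu').2
    have hcv : orderOf σv = 5 := orderOf_eq_prime (hσ hvs hv').1 (hσ hvs hv').2
    let T : Subgroup (Bool → Equiv.Perm (Fin 5)) := Subgroup.pi Set.univ fun _ => Subgroup.zpowers cyc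
    have hT : Nat.card T = 5 ^ 2 := by
      have e : orderOf cyc = 5 := orderOf_eq_prime cyc_ok.1 cyc_ok.2.1
      rw [Nat.card_congr (show T ≃ (Bool → Subgroup.zpowers cyc) from
        { toFun := fun a r => ⟨a.1 r, a.2 r trivial⟩
          invFun := fun a => ⟨fun r => a r, fun r _ => (a r).2⟩
          left_inv := fun a => rfl
          right_inv := fun a => rfl }), Nat.card_fun, Nat.card_zpowers, e, Nat.card_eq_fintype_card (α := Bool),
        Fintype.card_bool]
    rw [← hT]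
    refine Subgroup.card_dvd_of_le fun a ha => ?_
    obtain ⟨i, hi⟩ := Subgroup.mem_zpowers_iff.1 (ha true trivial)
    obtain ⟨j, hj⟩ := Subgroup.mem_zpowers_iff.1 (ha false trivial)
    refine ⟨⟨v, _, hv⟩ ^ i * ⟨u, _, hu⟩ ^ j, ?_⟩
    rw [map_mul, map_zpow, map_zpow, hψu, hψv]
    funext r
    cases r
    · simp only [Pi.mul_apply, Pi.pow_apply, hvs, one_zpow, one_mul]
      rw [← hj, ← hu']; rfl
    · simp only [Pi.mul_apply, Pi.pow_apply, hus, one_zpow, mul_one]
      rw [← hi, ← hv']; rfl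
  obtain ⟨R, hR⟩ := Sylow.exists_subgroup_card_pow_prime 5 h25
  have hSC : ∀ c : S, (c : G) ∈ C := fun c => Subgroup.mem_centralizer_singleton_iff.2 (hρ c).comm
  let f : R →* C := MonoidHom.mk' (fun r => ⟨r.1.1, hSC r.1⟩) fun _ _ => rfl
  have hf : Function.Injective f := fun a b e => Subtype.ext (Subtype.ext (congrArg (fun y : C => (y : G)) e))
  have hfc : Nat.card f.range = 5 ^ 2 := by
    rw [← hR, Nat.card_congr (MonoidHom.ofInjective hf).toEquiv]
  obtain ⟨P5, hP5⟩ := (IsPGroup.of_card hfc).exists_le_sylow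
  have hPe : f.range = (P5 : Subgroup C) := by
    refine Subgroup.eq_of_le_of_card_ge hP5 ?_
    obtain ⟨n, hn⟩ := IsPGroup.iff_card.1 P5.isPGroup'
    rw [hn, hfc]
    refine Nat.pow_le_pow_right (by norm_num) ?_
    by_contra hlt
    have := (pow_dvd_pow 5 (show 3 ≤ n by omega)).trans (hn ▸ Subgroup.card_subgroup_dvd_card (P5 : Subgroup C))
    rw [hcard, hQ] at this
    norm_num at this
  let b' : C := ⟨b, Subgroup.mem_centralizer_singleton_iff.2 hb⟩
  have hb' : IsPGroup 5 (Subgroup.zpowers b') := IsPGroup.of_card (n := 1) (by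
    rw [Nat.card_zpowers, pow_one]
    exact orderOf_eq_prime (Subtype.ext hb5) fun e => hb1 (congrArg Subtype.val e))
  obtain ⟨R', hR'⟩ := hb'.exists_le_sylow
  obtain ⟨c, hc⟩ := MulAction.exists_smul_eq C R' P5
  have hmem : MulAut.conj c b' ∈ f.range := by
    rw [hPe, ← hc, Sylow.coe_subgroup_smul]
    exact Subgroup.smul_mem_pointwise_smul b' (MulAut.conj c) _ (hR' (Subgroup.mem_zpowers b'))
  obtain ⟨r, hr⟩ := hmem
  have hr' : (r.1 : G) = (c : G) * b * (c : G)⁻¹ := congrArg (fun y : C => (y : G)) hr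
  have hcz : (c : G) * z = z * c := Subgroup.mem_centralizer_singleton_iff.1 c.2
  set b1 := (c : G) * b * (c : G)⁻¹ with hb1def
  obtain ⟨σ, hσb⟩ : ∃ σ, Rel h b1 σ := hr' ▸ r.1.2
  have h5 : b1 ^ 5 = 1 := by rw [hb1def, conj_pow, hb5]; simp
  have hne : b1 ≠ 1 := fun e => hb1 (conj_eq_one_iff.1 e)
  have hσ5 : σ ^ 5 = 1 := by
    have := hσb.pow 5
    rw [h5] at this
    exact this.unique Rel.one
  have hσne : σ ≠ 1 := fun e => hne (not_Q_five h (e ▸ hσb).mem_Q h5)
  have hboth : σ true = 1 ∨ σ false = 1 := by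
    by_contra hcon
    push Not at hcon
    set y := (c : G) * x * (c : G)⁻¹
    have hy : y ∈ Q := h.ext.norm c hcz x hx
    have hfix : h.act b1 (cd y) = cd y := by
      rw [h.act_cd hσb.comm hy]
      congr 1
      simp only [b1, y]
      calc c.1 * b * c.1⁻¹ * (c.1 * x * c.1⁻¹) * (c.1 * b * c.1⁻¹)⁻¹ = c.1 * (b * x) * b⁻¹ * c.1⁻¹ := by group
        _ = _ := by rw [hbx]; group
    have hlt := h.lt y hy
    rw [hσb.act_eq hlt, pw, wd_append] at hfix
    set a := cd y
    set a1 := wd K8 (word false (σ false)) a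
    have e5 : ∀ s, σ s ^ 5 = 1 := fun s => congrFun hσ5 s
    have f1 := (five_ok true (σ false) (e5 false) hcon.2).2.1
    have f2 := (five_ok false (σ true) (e5 true) hcon.1).2.1
    simp only [List.all_eq_true, List.mem_range, Bool.and_eq_true, beq_iff_eq, List.contains_iff_mem, Bool.not_false,
      Bool.not_true] at f1 f2
    have ha1 : a1 < 256 := wd_lt' (word_lt _ _) hlt
    have m1 := (f1 a hlt).2
    have m2 := (f2 a1 ha1).2
    rw [hfix, Nat.xor_comm] at m2
    have e0 : a1 = a := Nat.xor_eq_zero_iff.1 (spn_inter (s := true) m2 m1)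
    have n1 : a ∈ spn true := List.contains_iff_mem.1 ((f1 a hlt).1.symm.trans (beq_iff_eq.2 e0))
    have n2 : a ∈ spn false := List.contains_iff_mem.1 ((f2 a hlt).1.symm.trans
      (beq_iff_eq.2 (by rw [← e0] at hfix ⊢; exact hfix)))
    have := spn_inter (s := true) n1 n2
    refine hx0 ?_
    have hx' : x = c.1⁻¹ * y * c.1⁻¹⁻¹ := by simp only [y]; group
    rw [hx', ← h.act_cd (comm_inv hcz) hy]
    show h.act c.1⁻¹ a = 0
    rw [this]
    have := h.act_xor (comm_inv hcz) (Nat.two_pow_pos K8.n) (Nat.two_pow_pos K8.n)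
    simpa using this
  by_cases h1 : σ true = 1
  · exact ⟨c, hcz, hσb.comm, h5, hne, σ, hσb, h1, fun e => hσne (funext fun r => by cases r <;> simp [h1, e])⟩
  · have h0 := hboth.resolve_left h1
    obtain ⟨d, hd, hda⟩ := h.exists_lift swap_ok.1
    refine ⟨d * c, comm_mul hd hcz, ?_⟩
    have hrel : Rel h (d * b1 * d⁻¹) fun s => σ (!s) := ⟨comm_mul (comm_mul hd hσb.comm) (comm_inv hd), fun s i => by
      have hp : pt s i < 2 ^ K8.n := pt_lt s i
      have hback : h.act d⁻¹ (pt s i) = pt (!s) i := by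
        have := hda _ (show pt (!s) i < 2 ^ K8.n from pt_lt _ i)
        rw [swap_ok.2, Bool.not_not] at this
        rw [← this, h.act_inv_left hd (show pt (!s) i < 2 ^ K8.n from pt_lt _ i)]
      rw [h.act_mul (comm_mul hd hσb.comm) (comm_inv hd) hp, hback,
        h.act_mul hd hσb.comm (show pt (!s) i < 2 ^ K8.n from pt_lt _ i), hσb.act,
        hda _ (show pt (!s) _ < 2 ^ K8.n from pt_lt _ _), swap_ok.2, Bool.not_not]⟩
    rw [show d * c.1 * b * (d * c.1)⁻¹ = d * b1 * d⁻¹ by simp only [b1]; group]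
    exact ⟨hrel.comm, by rw [conj_pow, h5]; simp, fun e => hne (conj_eq_one_iff.1 e), _, hrel, h0, h1⟩

/-- The centralizer of the five-element inside the centralizer of the involution. -/
theorem Five.cent (F : Five h b)
    (hcard : Nat.card (Subgroup.centralizer ({z} : Set G)) = 42525 * (2 ^ 12 * Nat.card Q)) (hQ : Nat.card Q = 512)
    {c : G} (hc : c * z = z * c) (hcb : b * c = c * b) : ∃ i : ℕ, ∃ y ∈ Y h false, c = b ^ i * y := by
  obtain ⟨τ, hτ, hτ1, hτ0⟩ := F.rel
  have hτ5 : τ false ^ 5 = 1 := by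
    have := hτ.pow 5
    rw [F.pow] at this
    exact congrFun (this.unique Rel.one) false
  have f1 := (five_ok true (τ false) hτ5 hτ0).2.1
  simp only [List.all_eq_true, List.mem_range, Bool.and_eq_true, beq_iff_eq, Bool.not_true] at f1
  obtain ⟨σ, hσ⟩ := exists_rel (h := h) hc true fun i => by
    have hp : pt true i < 2 ^ K8.n := pt_lt true i
    have hlt := h.act_lt hc (pt true i)
    have hfix : h.act b (h.act c (pt true i)) = h.act c (pt true i) := by
      rw [← h.act_mul F.comm hc hp, hcb, h.act_mul hc F.comm hp, hτ.act, hτ1]; rfl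
    rw [hτ.act_eq hlt] at hfix
    simp only [pw, hτ1, show word true (1 : Equiv.Perm (Fin 5)) = [] by decide +kernel, List.nil_append] at hfix
    exact List.contains_iff_mem.1 ((f1 _ hlt).1.symm.trans (beq_iff_eq.2 hfix))
  have e : σ false * τ false = τ false * σ false := by
    have h1 := hσ.mul hτ
    rw [← hcb] at h1
    exact congrFun (h1.unique (hτ.mul hσ)) false
  obtain ⟨i, hi⟩ := centralize_five _ _ hτ5 hτ0 e
  refine ⟨i, (b ^ i.val)⁻¹ * c, ?_, (mul_inv_cancel_left _ _).symm⟩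
  refine mem_Y_of_comm (s := true) hτ hτ0 F.pow ((hτ.pow i).inv.mul hσ) ?_ ?_ hτ1
  · simp [hi]
  · rw [← mul_assoc, ((Commute.refl b).pow_right i.val).inv_right.eq, mul_assoc, hcb, mul_assoc]

end Cfsg.Agent.Invol.Co1.Five
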