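import Cfsg.Agent.Lib.Invol.HJ.Order
import Cfsg.Agent.Lib.Invol.HJ.Uniq.J2Side
import Cfsg.Agent.Lib.Spor.J2.Structure

/-!
# An involution centralizer generates a group of Hall-Janko type with any mover of the centre
-/

set_option autoImplicit false
set_option linter.unusedSectionVars false

namespace Cfsg.Agent.Invol.Co1.Five

variable {H : Type*} [Group H] [Finite H] {z : H} {Q : Subgroup H}

theorem simple_of (h : HJ.Setting z Q) : IsSimpleGroup H := by
  obtain ⟨e⟩ := HJ.Uniq.isoJ2 h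
  haveI := Cfsg.Agent.J2Cert.simple_J2
  haveI : Nontrivial H := e.toEquiv.nontrivial
  exact IsSimpleGroup.isSimpleGroup_of_surjective e.symm.toMonoidHom e.symm.surjective

theorem gen_top (h : HJ.Setting z Q) {V : Subgroup H} (hC : Subgroup.centralizer ({z} : Set H) ≤ V) {x : H}
    (hx : x ∈ V) (hxQ : x * z * x⁻¹ ∈ Q) (hxne : x * z * x⁻¹ ≠ z) : V = ⊤ := by
  classical
  by_contra hV
  haveI := simple_of h
  letI := Fintype.ofFinite H
  set C := Subgroup.centralizer ({z} : Set H) with hCdef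
  let O : Finset H := Finset.univ.filter fun a => ∃ v ∈ V, v * z * v⁻¹ = a
  have hOm : ∀ {a}, a ∈ O ↔ ∃ v ∈ V, v * z * v⁻¹ = a := fun {a} => by simp [O]
  have hm : O.card = (C.subgroupOf V).index := by
    rw [Subgroup.index_eq_card, ← Fintype.card_coe, ← Nat.card_eq_fintype_card]
    refine (Nat.card_congr (Equiv.ofBijective (fun q : ↥V ⧸ C.subgroupOf V =>
      (⟨(q.out : H) * z * (q.out : H)⁻¹, hOm.2 ⟨_, q.out.2, rfl⟩⟩ : ↥O)) ⟨fun q q' e => ?_, fun a => ?_⟩)).symm
    · have e' : (q.out : H) * z * (q.out : H)⁻¹ = (q'.out : H) * z * (q'.out : H)⁻¹ := congrArg Subtype.val e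
      rw [← q.out_eq', ← q'.out_eq']
      refine QuotientGroup.eq.2 (Subgroup.mem_subgroupOf.2 (Subgroup.mem_centralizer_singleton_iff.2 ?_))
      refine mul_inv_eq_iff_eq_mul.1 ?_
      show (q.out : H)⁻¹ * (q'.out : H) * z * ((q.out : H)⁻¹ * (q'.out : H))⁻¹ = z
      calc _ = (q.out : H)⁻¹ * ((q'.out : H) * z * (q'.out : H)⁻¹) * (q.out : H) := by group
        _ = _ := by rw [← e']; group
    · obtain ⟨v, hv, hva⟩ := hOm.1 a.2
      obtain ⟨c, hc⟩ := QuotientGroup.mk_out_eq_mul (C.subgroupOf V) (⟨v, hv⟩ : ↥V)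
      refine ⟨QuotientGroup.mk ⟨v, hv⟩, Subtype.ext ?_⟩
      show ((QuotientGroup.mk (⟨v, hv⟩ : ↥V)).out : H) * z * _⁻¹ = a
      rw [hc, ← hva]
      show v * ((c : ↥V) : H) * z * (v * ((c : ↥V) : H))⁻¹ = v * z * v⁻¹
      have := Subgroup.mem_centralizer_singleton_iff.1 (Subgroup.mem_subgroupOf.1 c.2)
      rw [mul_assoc v, this]
      group
  have hG := HJ.order_eq_j2 h
  have hmn : O.card * V.index = 315 := by
    have h1 := (C.subgroupOf V).card_mul_index
    have h2 := V.card_mul_index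
    rw [Nat.card_congr (Subgroup.subgroupOfEquivOfLe hC).toEquiv, h.toCore.card_C, ← hm] at h1
    rw [hG, ← h1] at h2
    nlinarith
  have hn : 10 ≤ V.index := by
    by_contra hlt
    have hcore : V.normalCore = ⊥ := (IsSimpleGroup.eq_bot_or_eq_top_of_normal _ V.normalCore_normal).resolve_right
      fun e => hV (top_le_iff.1 (e ▸ V.normalCore_le))
    have hinj : Function.Injective (MulAction.toPermHom H (H ⧸ V)) := by
      rw [← MonoidHom.ker_eq_bot_iff, ← Subgroup.normalCore_eq_ker, hcore]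
    have hd := Subgroup.card_dvd_of_injective _ hinj
    rw [hG, Nat.card_perm, ← Subgroup.index_eq_card] at hd
    have := (Nat.le_of_dvd (Nat.factorial_pos _) hd).trans (Nat.factorial_le (show V.index ≤ 9 by omega))
    norm_num [Nat.factorial] at this
  obtain ⟨M⟩ := h.toCore.model
  let X : Finset H := Finset.univ.filter fun a => a ∈ HJ.nonCentralInvol z Q
  have hXm : ∀ {a}, a ∈ X ↔ a ∈ HJ.nonCentralInvol z Q := fun {a} => by simp [X]
  have hX : X.card = 10 := by
    rw [← (h.toCore.ten).1, ← Fintype.card_subtype, ← Nat.card_eq_fintype_card]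
  set s := x * z * x⁻¹ with hs
  have hz1 := h.toCore.ne_one
  have hsX : s ∈ HJ.nonCentralInvol z Q := ⟨hxQ, by rw [hs, conj_mul, h.z_sq, mul_one, mul_inv_cancel],
    fun e => hz1 (conj_eq_one_iff.1 e), hxne⟩
  have hXO : ∀ {a}, a ∈ HJ.nonCentralInvol z Q → ∃ v ∈ V, v * z * v⁻¹ = a := fun {a} ha => by
    obtain ⟨c, hc, hca⟩ := M.trans_X h.toCore hsX ha
    exact ⟨c * x, mul_mem (hC hc) hx, by rw [← hca, hs]; group⟩
  have hQz : ∀ {q}, q ∈ Q → q * z = z * q := fun hq => h.toCore.cz (h.le_C hq)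
  have side : ∀ {w s' : H}, w ∈ V → w * z * w⁻¹ = s' → s' ∈ HJ.nonCentralInvol z Q → ∃ S : Finset H,
      8 ≤ S.card ∧ S ⊆ O ∧ ∀ a ∈ S, a * s' = s' * a ∧ a * z ≠ z * a := by
    intro w s' hw he hs'
    set T := X.filter fun a => w * a * w⁻¹ * z ≠ z * (w * a * w⁻¹) with hT
    refine ⟨T.image fun a => w * a * w⁻¹, ?_, ?_, ?_⟩
    · rw [Finset.card_image_of_injective _ fun a c e => mul_left_cancel (mul_right_cancel e)]
      have hc' := Finset.card_filter_add_card_filter_not (s := X) (fun a => w * a * w⁻¹ * z ≠ z * (w * a * w⁻¹))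
      rw [← hT, hX] at hc'
      set z' := w⁻¹ * z * w with hz'
      have hz'C : z' ∈ C := by
        refine Subgroup.mem_centralizer_singleton_iff.2 ?_
        have := hQz hs'.1
        rw [← he] at this
        calc w⁻¹ * z * w * z = w⁻¹ * (z * (w * z * w⁻¹)) * w := by group
          _ = _ := by rw [← this, hz']; group
      have hz'Q : z' ∈ Q := h.mem_Q_of_conj hz'C (isConj_iff.2 ⟨w, by rw [hz']; group⟩)
      have hz'X : z' ∈ HJ.nonCentralInvol z Q := by
        refine ⟨hz'Q, ?_, fun e => hz1 ?_, fun e => hs'.2.2.2 ?_⟩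
        · rw [hz', show w⁻¹ * z * w * (w⁻¹ * z * w) = w⁻¹ * (z * z) * w by group, h.z_sq]; group
        · calc z = w * z' * w⁻¹ := by rw [hz']; group
            _ = 1 := by rw [e]; group
        · calc s' = w * z' * w⁻¹ := by rw [e, he]
            _ = z := by rw [hz']; group
      have : (X.filter fun a => ¬ (w * a * w⁻¹ * z ≠ z * (w * a * w⁻¹))).card ≤ 2 := by
        refine (Finset.card_le_card (t := ({z', z * z'} : Finset H)) fun a ha => ?_).trans Finset.card_le_two
        obtain ⟨ha1, ha2⟩ := Finset.mem_filter.1 ha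
        rw [not_not] at ha2
        have hcom : z' * a = a * z' := by
          calc w⁻¹ * z * w * a = w⁻¹ * (z * (w * a * w⁻¹)) * w := by group
            _ = w⁻¹ * (w * a * w⁻¹ * z) * w := by rw [ha2]
            _ = _ := by rw [hz']; group
        rcases (h.toCore.ten).2 z' hz'X a (hXm.1 ha1) hcom with e | e <;> simp [e]
      omega
    · intro a ha
      obtain ⟨u, hu, rfl⟩ := Finset.mem_image.1 ha
      obtain ⟨v, hv, hvu⟩ := hXO (hXm.1 (Finset.mem_filter.1 hu).1)
      exact hOm.2 ⟨w * v, mul_mem hw hv, by rw [← hvu]; group⟩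
    · intro a ha
      obtain ⟨u, hu, rfl⟩ := Finset.mem_image.1 ha
      obtain ⟨hu1, hu2⟩ := Finset.mem_filter.1 hu
      exact ⟨by rw [← he, conj_mul, conj_mul, hQz (hXm.1 hu1).1], hu2⟩
  have hzsX := h.toCore.zmul_mem hsX
  obtain ⟨w, hw, hwz⟩ := hXO hzsX
  obtain ⟨S1, c1, o1, p1⟩ := side hx rfl hsX
  obtain ⟨S2, c2, o2, p2⟩ := side hw hwz hzsX
  have hd : Disjoint S1 S2 := Finset.disjoint_left.2 fun a ha ha' => (p1 a ha).2 (by
    have e1 := (p1 a ha).1
    have e2 := (p2 a ha').1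
    rw [← mul_assoc, mul_assoc z s a, ← e1, ← mul_assoc z a] at e2
    exact mul_right_cancel e2)
  have hd2 : Disjoint (insert z X) (S1 ∪ S2) := Finset.disjoint_left.2 fun a ha ha' => by
    have hne : a * z ≠ z * a := (Finset.mem_union.1 ha').elim (fun e => (p1 a e).2) fun e => (p2 a e).2
    rcases Finset.mem_insert.1 ha with rfl | ha
    · exact hne rfl
    · exact hne (hQz (hXm.1 ha).1)
  have hsub : insert z X ∪ (S1 ∪ S2) ⊆ O := Finset.union_subset (Finset.insert_subset (hOm.2 ⟨1, V.one_mem, by group⟩)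
    fun a ha => hOm.2 (hXO (hXm.1 ha))) (Finset.union_subset o1 o2)
  have hzX : z ∉ X := fun e => (hXm.1 e).2.2.2 rfl
  have hcard := Finset.card_le_card hsub
  rw [Finset.card_union_of_disjoint hd2, Finset.card_union_of_disjoint hd, Finset.card_insert_of_notMem hzX, hX] at hcard
  have hle : O.card ≤ 31 := by nlinarith
  have hdvd : O.card ∣ 315 := Dvd.intro _ hmn
  have hlo : 27 ≤ O.card := by omega
  revert hdvd
  interval_cases O.card <;> norm_num

end Cfsg.Agent.Invol.Co1.Five
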