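import Cfsg.Agent.Lib.Invol.Co1.Five.Quot
import Cfsg.Agent.Lib.Invol.Co1.Five.Gen
import Cfsg.Agent.Lib.Grp.Components

/-!
# The layer of the centralizer of the five-element
-/

set_option autoImplicit false
set_option linter.unusedSectionVars false
set_option maxRecDepth 100000

namespace Cfsg.Agent.Invol.Co1.Five

open Cfsg.Agent.Classical.BinCoc Cfsg.Agent.Invol.Big Cfsg.Agent.Invol.Big.Code

/-- The codes a translate of the representative may take. -/
def cand16 : List ℕ :=
  (List.range 256).filter fun v => !K8.q v && (spn true).all fun u => bq K8 1 u || (bq K8 u v == bq K8 u 16)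

theorem cand16_ok : cand16.length = 16 := by decide +kernel

theorem pair_ok : ∀ (s : Bool) (i j : Fin 5), i ≠ j → bq K8 (pt s i) (pt s j) = true := by decide +kernel

theorem five_move : ∀ σ : Equiv.Perm (Fin 5), σ ^ 5 = 1 → σ ≠ 1 → ∀ i, σ i ≠ i := by decide +kernel

variable {G : Type*} [Group G] [Finite G] {z : G} {Q : Subgroup G} {cd : G → ℕ}
variable {h : Code K8 z Q cd} {b : G}

theorem conj_comm {x y a : G} (e : y * (x * a * x⁻¹) = x * a * x⁻¹ * y) : x⁻¹ * y * x * a = a * (x⁻¹ * y * x) := by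
  calc x⁻¹ * y * x * a = x⁻¹ * (y * (x * a * x⁻¹)) * x := by group
    _ = _ := by rw [e]; group

theorem comm_of_conj {x y a : G} (e : x⁻¹ * y * x * a = a * (x⁻¹ * y * x)) : y * (x * a * x⁻¹) = x * a * x⁻¹ * y := by
  calc y * (x * a * x⁻¹) = x * (x⁻¹ * y * x * a) * x⁻¹ := by group
    _ = _ := by rw [e]; group

theorem Five.main (F : Five h b) {g : G} (P : Pr z Q cd g) (hQ : Nat.card Q = 512)
    (hcard : Nat.card (Subgroup.centralizer ({z} : Set G)) = 42525 * (2 ^ 12 * Nat.card Q)) :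
    Cfsg.Spor.IsoJ2 ↥(Cfsg.layer ↥(Subgroup.centralizer ({b} : Set G))) ∧
      Nonempty (↥(Subgroup.centralizer (((Cfsg.layer ↥(Subgroup.centralizer ({b} : Set G))).map
        (Subgroup.subtype _)) : Set G)) ≃* alternatingGroup (Fin 5)) := by
  classical
  set M := Subgroup.centralizer ({b} : Set G) with hMdef
  obtain ⟨τ, hτ, hτ1, hτ0⟩ := F.rel
  obtain ⟨x, hxb, hxz, hxt⟩ := F.exists_x P hQ
  set t := g * z * g⁻¹ with ht
  have hxz' : x * (z * t) * x⁻¹ = z := by
    rw [← conj_mul, hxz, hxt, mul_inv_cancel_right, mul_assoc, show t * t = 1 from P.t_sq, mul_one]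
  have htS : t ∈ QS h true := ⟨P.hg, by rw [P.hv]; exact sol_ok.2.2.2.1⟩
  set r := h.rep 16 with hr
  have h16 : (16 : ℕ) < 2 ^ K8.n := by rw [K8_n]; norm_num
  have hrc : cd r = 16 := h.cd_rep h16
  have hrQ : r ∈ Q := h.rep_mem 16
  have hrS : r ∈ QS h true := ⟨hrQ, by rw [hrc]; exact sol_ok.2.2.1⟩
  have hrb : r * b = b * r := F.QS_comm hrS
  have hY0 : QS h true ≤ Y h false := QS_le_Y h false
  have hrt : ¬ r * t = t * r := fun e => by
    have := (h.commute_iff hrQ P.hg).1 e
    rw [hrc, P.hv, sol_ok.2.2.2.2.2.1] at this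
    exact absurd this (by decide)
  -- powers of the five-element
  have hbpow : ∀ n : ℕ, b ^ n ∈ Y h false → b ^ n = 1 := fun n hn => by
    rcases Y_inter (pow_mem F.memY n) hn with e | e
    · exact e
    · exfalso
      have h5 : z ^ 5 = 1 := by rw [← e, ← pow_mul, mul_comm, pow_mul, F.pow, one_pow]
      exact h.ne (not_Q_five h h.ext.mem h5)
  -- members of the first solid moved into the second centralizer
  have hconj : ∀ q ∈ QS h true, bq K8 1 (cd q) = false → x * q * x⁻¹ ∈ Y h false := by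
    intro q hq hb1
    have hqt : q * t = t * q := P.x_t hq.1 hb1
    have hcz : x * q * x⁻¹ * z = z * (x * q * x⁻¹) := by
      have e : q * (z * t) = z * t * q := ((show Commute q z from h.ext.central q hq.1).mul_right (show Commute q t from hqt)).eq
      conv_lhs => rw [← hxz']
      conv_rhs => rw [← hxz']
      rw [conj_mul, conj_mul, e]
    have hcb : b * (x * q * x⁻¹) = x * q * x⁻¹ * b :=
      (Commute.mul_right (Commute.mul_right (show Commute b x from hxb.symm) (show Commute b q from (F.QS_comm hq).symm))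
        (show Commute b x from hxb.symm).inv_right).eq
    obtain ⟨i, w, hw, e⟩ := F.cent hcard hQ hcz hcb
    have hc : Commute (b ^ i) w := (show Commute b w from (F.commute_Y hQ hcard hw).symm).pow_left i
    have e4 := congrArg (· ^ 4) e
    simp only [hc.mul_pow, conj_pow, pow_four h hq.1] at e4
    rw [mul_one, mul_inv_cancel, ← pow_mul] at e4
    have hbi : b ^ (i * 4) = 1 := hbpow _ (by rw [eq_inv_of_mul_eq_one_left e4.symm]; exact inv_mem (pow_mem hw 4))
    have hbi' : b ^ i = 1 := by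
      have h5 : (b ^ i) ^ 5 = 1 := by rw [← pow_mul, mul_comm, pow_mul, F.pow, one_pow]
      rwa [pow_succ, ← pow_mul, hbi, one_mul] at h5
    rw [e, hbi', one_mul]
    exact hw
  -- the conjugate of a member of the first centralizer
  have hmove : ∀ {y : G}, y ∈ Y h true → x⁻¹ * y * x * z = z * (x⁻¹ * y * x) ∧
      ∀ q ∈ QS h true, bq K8 1 (cd q) = false → x⁻¹ * y * x * q = q * (x⁻¹ * y * x) := by
    intro y hy
    refine ⟨conj_comm ?_, fun q hq hb1 => conj_comm (Y_commute h hQ hcard (s := true) hy (hconj q hq hb1))⟩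
    rw [hxz]
    exact ((show Commute y z from (mem_Y.1 hy).1).mul_right
      (show Commute y t from ((mem_Y.1 hy).2 t htS.1 htS.2).symm)).eq
  set R := Y h true ⊓ Subgroup.centralizer ({x * r * x⁻¹} : Set G) with hRdef
  have hRY : ∀ {y : G}, y ∈ R → y ∈ Y h true ∧ x⁻¹ * y * x ∈ Y h true := by
    intro y hy
    obtain ⟨hy1, hy2⟩ := Subgroup.mem_inf.1 hy
    obtain ⟨hc, hq⟩ := hmove hy1
    have hyr := conj_comm (Subgroup.mem_centralizer_singleton_iff.1 hy2)
    refine ⟨hy1, mem_Y.2 ⟨hc, fun q hqQ hqs => ?_⟩⟩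
    cases hb1 : bq K8 1 (cd q)
    · exact (hq q ⟨hqQ, hqs⟩ hb1).symm
    · have hm : q * r⁻¹ ∈ QS h true := mul_mem ⟨hqQ, hqs⟩ (inv_mem hrS)
      have := hq _ hm (by
        rw [h.mul q hqQ _ (inv_mem hrQ), h.cd_inv hrQ, hrc, bq_addr h (h.lt q hqQ) (by norm_num) (by norm_num), hb1,
          bq_comm, sol_ok.2.2.2.2.2.1]
        rfl)
      have h2 : Commute (x⁻¹ * y * x) (q * r⁻¹ * r) := Commute.mul_right this hyr
      rw [inv_mul_cancel_right] at h2
      exact h2.symm.eq
  have hbR : b ∈ R := Subgroup.mem_inf.2 ⟨F.memY, Subgroup.mem_centralizer_singleton_iff.2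
    (Commute.mul_right (Commute.mul_right (show Commute b x from hxb.symm) (show Commute b r from hrb.symm))
      (show Commute b x from hxb.symm).inv_right).eq⟩
  have hzR : z ∉ R := fun hz => by
    have e := conj_comm (Subgroup.mem_centralizer_singleton_iff.1 (Subgroup.mem_inf.1 hz).2)
    rw [show x⁻¹ * z * x = z * t by
      calc x⁻¹ * z * x = x⁻¹ * (x * (z * t) * x⁻¹) * x := by rw [hxz']
        _ = _ := by group, mul_assoc z t r, ← mul_assoc r z t, h.ext.central r hrQ, mul_assoc z r t] at e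
    exact hrt (mul_left_cancel e).symm
  -- the order of R
  have h60 : 60 ≤ Nat.card R := by
    have hsub : R ≤ Y h true := inf_le_left
    have hidx : (R.subgroupOf (Y h true)).index ≤ 32 := by
      rw [Subgroup.index_eq_card]
      let φ : ↥(Y h true) ⧸ R.subgroupOf (Y h true) → ↥(cand16.toFinset ×ˢ (Finset.univ : Finset Bool)) := fun u =>
        let y' := x⁻¹ * (u.out : G) * x
        ⟨(cd (y' * r * y'⁻¹), decide (y' * r * y'⁻¹ = h.rep (cd (y' * r * y'⁻¹)))), by
          refine Finset.mem_product.2 ⟨List.mem_toFinset.2 ?_, Finset.mem_univ _⟩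
          obtain ⟨hc, hq⟩ := hmove u.out.2
          have ea : cd (y' * r * y'⁻¹) = h.act y' 16 := by rw [← hrc, h.act_cd hc hrQ]
          rw [ea, cand16, List.mem_filter]
          refine ⟨List.mem_range.2 (h.act_lt hc 16), ?_⟩
          rw [Bool.and_eq_true, h.act_q hc h16, List.all_eq_true]
          refine ⟨by decide +kernel, fun v hv => ?_⟩
          have hv' : v < 2 ^ K8.n := spn_lt hv
          cases hb1 : bq K8 1 v
          · rw [Bool.false_or, beq_iff_eq]
            have := hq (h.rep v) ⟨h.rep_mem v, by rw [h.cd_rep hv']; exact hv⟩ (by rw [h.cd_rep hv']; exact hb1)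
            have hfix : h.act y' v = v := by
              show cd (y' * h.rep v * y'⁻¹) = v
              rw [show y' * h.rep v = h.rep v * y' from this, mul_inv_cancel_right, h.cd_rep hv']
            rw [← h.bq_act hc hv' h16, hfix]
          · rfl⟩
      refine (Nat.card_le_card_of_injective φ fun u u' e => ?_).trans ?_
      · set y1 := x⁻¹ * (u.out : G) * x with hy1
        set y2 := x⁻¹ * (u'.out : G) * x with hy2
        have k1 : y1 * r * y1⁻¹ ∈ Q := h.ext.norm _ (hmove u.out.2).1 r hrQ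
        have k2 : y2 * r * y2⁻¹ ∈ Q := h.ext.norm _ (hmove u'.out.2).1 r hrQ
        have e' := congrArg Subtype.val e
        simp only [φ, Prod.mk.injEq, decide_eq_decide] at e'
        obtain ⟨ec, ed⟩ := e'
        have heq : y1 * r * y1⁻¹ = y2 * r * y2⁻¹ := by
          rw [← hy1, ← hy2] at ed ec
          rcases (h.cd_eq_iff k1 k2).1 ec with k | k
          · exact k.symm
          · exfalso
            have hl := h.lt _ k1
            rcases (h.cd_eq_iff (h.rep_mem (cd (y1 * r * y1⁻¹))) k1).1 (h.cd_rep hl) with a | a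
            · have := ed.1 a
              rw [← ec, ← a] at this
              rw [this] at k
              exact h.ne (left_eq_mul.1 k)
            · have hne : ¬ y1 * r * y1⁻¹ = h.rep (cd (y1 * r * y1⁻¹)) := fun a' => h.ne (left_eq_mul.1 (a'.symm.trans a))
              apply hne
              refine ed.2 ?_
              rw [← ec, k]
              conv_lhs => rw [a, mul_assoc, h.ext.zz, mul_one]
        rw [← u.out_eq', ← u'.out_eq']
        refine QuotientGroup.eq.2 (Subgroup.mem_subgroupOf.2 (Subgroup.mem_inf.2 ⟨mul_mem (inv_mem u.out.2) u'.out.2,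
          Subgroup.mem_centralizer_singleton_iff.2 (comm_of_conj ?_)⟩))
        show x⁻¹ * ((u.out : G)⁻¹ * (u'.out : G)) * x * r = r * (x⁻¹ * ((u.out : G)⁻¹ * (u'.out : G)) * x)
        rw [show x⁻¹ * ((u.out : G)⁻¹ * (u'.out : G)) * x = y1⁻¹ * y2 by rw [hy1, hy2]; group]
        calc y1⁻¹ * y2 * r = y1⁻¹ * (y2 * r * y2⁻¹) * y2 := by group
          _ = _ := by rw [← heq]; group
      · rw [Nat.card_eq_fintype_card, Fintype.card_coe, Finset.card_product, Finset.card_univ, Fintype.card_bool]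
        have := List.toFinset_card_le cand16
        rw [cand16_ok] at this
        omega
    have hm := (R.subgroupOf (Y h true)).card_mul_index
    rw [Nat.card_congr (Subgroup.subgroupOfEquivOfLe hsub).toEquiv, card_Y h hQ hcard] at hm
    nlinarith
  -- R is alternating
  obtain ⟨π, -, hπk, -⟩ := exists_alt h hQ hcard true
  have htriv : ∀ q ∈ R, q ∈ QS h false → q = 1 := by
    intro q hqR hqS
    have hlt := h.lt q hqS.1
    by_cases hsq : K8.q (cd q) = true
    · exfalso
      refine hzR ?_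
      have e := h.sq q hqS.1
      rw [qn, if_pos hsq, pow_one] at e
      rw [← e]; exact mul_mem hqR hqR
    have hs := sing_ok false
    simp only [List.all_eq_true, Bool.and_eq_true, Bool.or_eq_true, beq_iff_eq, List.contains_iff_mem] at hs
    rcases (hs _ hqS.2).2 with (e | e) | e
    · rcases (h.ker q hqS.1).1 e with rfl | rfl
      · rfl
      · exact absurd hqR hzR
    · exact absurd e hsq
    · exfalso
      obtain ⟨i, hi⟩ := mem_pp e
      set q' := b * q * b⁻¹ with hq'
      have hq'Q : q' ∈ Q := h.ext.norm b F.comm q hqS.1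
      have hq'c : cd q' = pt false (τ false i) := by rw [hq', ← h.act_cd F.comm hqS.1, ← hi, hτ.act]
      have hτ5 : τ false ^ 5 = 1 := by
        have := hτ.pow 5
        rw [F.pow] at this
        exact congrFun (this.unique Rel.one) false
      have hne := five_move _ hτ5 hτ0 i
      have ec := h.conj_bq hqS.1 hq'Q
      rw [← hi, hq'c, bn, if_pos (pair_ok false i _ hne.symm), pow_one] at ec
      refine hzR ?_
      have hq'R : q' ∈ R := mul_mem (mul_mem hbR hqR) (inv_mem hbR)
      have : q'⁻¹ * (q * q' * q⁻¹) ∈ R := mul_mem (inv_mem hq'R) (mul_mem (mul_mem hqR hq'R) (inv_mem hqR))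
      rwa [ec, inv_mul_cancel_left] at this
  let πR : ↥R →* alternatingGroup (Fin 5) := π.comp (Subgroup.inclusion inf_le_left)
  have hinj : Function.Injective πR := (injective_iff_map_eq_one πR).2 fun q hq => by
    have : Subgroup.inclusion (show R ≤ Y h true from inf_le_left) q ∈ π.ker := hq
    rw [hπk, Subgroup.mem_subgroupOf] at this
    exact Subtype.ext (htriv _ q.2 this)
  have eR : Nonempty (↥R ≃* alternatingGroup (Fin 5)) := ⟨MulEquiv.ofBijective πR (hinj.bijective_of_nat_card_le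
    (by rw [nat_card_alternatingGroup, Nat.card_fin]; exact h60))⟩
  obtain ⟨eR⟩ := eR
  -- the generated subgroup
  set L0 := Y h false ⊔ (Y h false).map (MulAut.conj x).toMonoidHom with hL0
  have hL1 : ∀ {w : G}, w ∈ Y h false → w ∈ L0 := fun hw => Subgroup.mem_sup_left hw
  have hL2 : ∀ {w : G}, w ∈ Y h false → x * w * x⁻¹ ∈ L0 := fun hw => Subgroup.mem_sup_right ⟨_, hw, rfl⟩
  have hLM : L0 ≤ M := sup_le (fun w hw => Subgroup.mem_centralizer_singleton_iff.2 (F.commute_Y hQ hcard hw)) (by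
    rintro _ ⟨w, hw, rfl⟩
    refine Subgroup.mem_centralizer_singleton_iff.2 ?_
    exact (Commute.mul_left (Commute.mul_left (show Commute x b from hxb) (show Commute w b from F.commute_Y hQ hcard hw))
      (show Commute x b from hxb).inv_left).eq)
  have hLR : ∀ {a : G}, a ∈ L0 → ∀ {y : G}, y ∈ R → y * a = a * y := by
    intro a ha y hy
    have : L0 ≤ Subgroup.centralizer ({y} : Set G) := sup_le (fun w hw => Subgroup.mem_centralizer_singleton_iff.2
      (Y_commute h hQ hcard (s := true) (hRY hy).1 hw).symm) (by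
      rintro _ ⟨w, hw, rfl⟩
      exact Subgroup.mem_centralizer_singleton_iff.2 (comm_of_conj (Y_commute h hQ hcard (s := true) (hRY hy).2 hw)).symm)
    exact (Subgroup.mem_centralizer_singleton_iff.1 (this ha)).symm
  have hLb : ∀ n : ℕ, b ^ n ∈ L0 → b ^ n = 1 := fun n hn => by
    set u : ↥R := ⟨b ^ n, pow_mem hbR n⟩
    have hcen : eR u ∈ Subgroup.center (alternatingGroup (Fin 5)) := Subgroup.mem_center_iff.2 fun a => by
      obtain ⟨y, rfl⟩ := eR.surjective a
      rw [← map_mul, ← map_mul]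
      exact congrArg _ (Subtype.ext (hLR hn y.2))
    rw [alternatingGroup.center_eq_bot (by simp), Subgroup.mem_bot, MulEquiv.map_eq_one_iff] at hcen
    exact congrArg Subtype.val hcen
  have S := F.setting P hQ hcard
  set V := (L0.subgroupOf M).map (mkB b) with hV
  have hCV : Subgroup.centralizer ({F.zb} : Set (MB b)) ≤ V := fun u hu => by
    obtain ⟨c, hcu, hcz⟩ := F.cent_lift (Subgroup.mem_centralizer_singleton_iff.1 hu)
    obtain ⟨i, w, -, hw, he, -⟩ := F.decomp hQ hcard hcz
    exact ⟨w, hL1 hw, by rw [← hcu, he, map_mul, mkB_pow, one_mul]⟩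
  have hxM : x ∈ M := Subgroup.mem_centralizer_singleton_iff.2 hxb
  have hxV : mkB b ⟨x, hxM⟩ ∈ V := by
    have hsw : r * x * z * (r * x)⁻¹ = t := by
      have hrt' : r * t * r⁻¹ = t * z := by
        rw [h.conj_bq hrQ P.hg, hrc, P.hv, bn, if_pos sol_ok.2.2.2.2.2.1, pow_one]
      rw [show r * x * z * (r * x)⁻¹ = r * (x * z * x⁻¹) * r⁻¹ by group, hxz, ← conj_mul, h.ext.central r hrQ,
        mul_inv_cancel_right, hrt', ← mul_assoc, ← P.t_z, mul_assoc, h.ext.zz, mul_one]
    have hu : (r * x)⁻¹ * x * (r * x) * z = z * ((r * x)⁻¹ * x * (r * x)) := conj_comm (by rw [hsw]; exact hxt)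
    have hub : b * ((r * x)⁻¹ * x * (r * x)) = (r * x)⁻¹ * x * (r * x) * b := by
      have hrx : Commute b (r * x) := Commute.mul_right hrb.symm hxb.symm
      exact ((hrx.inv_right.mul_right (show Commute b x from hxb.symm)).mul_right hrx).eq
    obtain ⟨i, w, hw, he⟩ := F.cent hcard hQ hu hub
    have hc : Commute (r * x) (b ^ i) := (Commute.mul_right (show Commute b r from hrb.symm) hxb.symm).symm.pow_right i
    have hm : r * (x * w * x⁻¹) * r⁻¹ ∈ L0 := mul_mem (mul_mem (hL1 (hY0 hrS)) (hL2 hw)) (inv_mem (hL1 (hY0 hrS)))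
    refine ⟨⟨_, hLM hm⟩, hm, ?_⟩
    rw [← one_mul (mkB b ⟨_, hLM hm⟩), ← mkB_pow b i, ← map_mul]
    refine congrArg _ (Subtype.ext ?_)
    show b ^ i * (r * (x * w * x⁻¹) * r⁻¹) = x
    calc b ^ i * (r * (x * w * x⁻¹) * r⁻¹) = b ^ i * (r * x) * w * (r * x)⁻¹ := by group
      _ = r * x * (b ^ i * w) * (r * x)⁻¹ := by rw [← hc.eq]; group
      _ = _ := by rw [← he]; group
  have hztS : z * t ∈ QS h true := mul_mem (z_QS h true) htS
  have hVtop : V = ⊤ := gen_top S hCV hxV
    ⟨⟨_, Subgroup.mem_centralizer_singleton_iff.2 (F.QS_comm hztS)⟩, hztS, by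
      rw [Five.zb, ← map_inv, ← map_mul, ← map_mul]
      exact congrArg _ (Subtype.ext hxz.symm)⟩
    (fun e => by
      rw [Five.zb, ← map_inv, ← map_mul, ← map_mul] at e
      have e' : x * z * x⁻¹ = z := mkB_inj4 F.pow (by
        show (x * z * x⁻¹) ^ 4 = 1
        rw [hxz]; exact pow_four h hztS.1) (pow_four h h.ext.mem) e
      rw [hxz] at e'
      exact (P.code.extc g).ne (mul_eq_left.1 e'))
  set L := L0.subgroupOf M with hL
  let φ : ↥L →* MB b := (mkB b).comp L.subtype
  have hφi : Function.Injective φ := (injective_iff_map_eq_one φ).2 fun u hu => by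
    obtain ⟨n, hn⟩ := mkB_eq (u := 1) (v := (u : ↥M)) (by rw [map_one]; exact hu.symm)
    rw [Subgroup.coe_one, one_mul] at hn
    have hu0 : ((u : ↥M) : G) ∈ L0 := u.2
    rw [hn] at hu0
    exact Subtype.ext (Subtype.ext (hn.trans (hLb n hu0)))
  have hφs : Function.Surjective φ := fun a => by
    obtain ⟨u, hu, e⟩ := (hVtop.ge (Subgroup.mem_top a) : a ∈ V)
    exact ⟨⟨u, hu⟩, e⟩
  obtain ⟨eJ⟩ := HJ.Uniq.isoJ2 S
  haveI := simple_of S
  haveI : Nontrivial ↥L := (MulEquiv.ofBijective φ ⟨hφi, hφs⟩).toEquiv.nontrivial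
  haveI hsimp : IsSimpleGroup ↥L := IsSimpleGroup.isSimpleGroup_of_surjective
    (MulEquiv.ofBijective φ ⟨hφi, hφs⟩).symm.toMonoidHom (MulEquiv.surjective _)
  have hdec : ∀ c : ↥M, ∃ (n : ℕ) (u : ↥L), c = bM b ^ n * u := fun c => by
    obtain ⟨u, hu⟩ := hφs (mkB b c)
    obtain ⟨n, hn⟩ := mkB_eq (u := (u : ↥M)) (v := c) hu
    refine ⟨n, u, Subtype.ext ?_⟩
    show (c : G) = b ^ n * ((u : ↥M) : G)
    rw [hn]
    exact ((show Commute ((u : ↥M) : G) b from Subgroup.mem_centralizer_singleton_iff.1 (u : ↥M).2).pow_right n).eq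
  have hbc : ∀ (n : ℕ) (c : ↥M), Commute (bM b ^ n) c := fun n c =>
    (show Commute (bM b) c from Subtype.ext (Subgroup.mem_centralizer_singleton_iff.1 c.2).symm).pow_left n
  have hLn : L.Normal := ⟨fun u hu c => by
    obtain ⟨n, v, rfl⟩ := hdec c
    rw [show bM b ^ n * v * u * (bM b ^ n * v)⁻¹ = bM b ^ n * (v * u * (v : ↥M)⁻¹) * (bM b ^ n)⁻¹ by group,
      (hbc n _).eq, mul_inv_cancel_right]
    exact mul_mem (mul_mem v.2 hu) (inv_mem v.2)⟩
  have hcomm : commutator ↥M ≤ L := by
    rw [commutator_def]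
    refine Subgroup.commutator_le.2 fun c _ d _ => ?_
    obtain ⟨n, v, rfl⟩ := hdec c
    obtain ⟨m, w, rfl⟩ := hdec d
    rw [commutatorElement_def]
    rw [show bM b ^ n * v * (bM b ^ m * w) * (bM b ^ n * (v : ↥M))⁻¹ * (bM b ^ m * (w : ↥M))⁻¹ =
      bM b ^ n * ((v : ↥M) * (bM b ^ m * w) * (v : ↥M)⁻¹) * (bM b ^ n)⁻¹ * (bM b ^ m * (w : ↥M))⁻¹ by group,
      (hbc n _).eq, mul_inv_cancel_right, show (v : ↥M) * (bM b ^ m * w) = bM b ^ m * (v * w) by
        rw [← mul_assoc, ← (hbc m _).eq, mul_assoc],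
      show bM b ^ m * ((v : ↥M) * w) * (v : ↥M)⁻¹ * (bM b ^ m * (w : ↥M))⁻¹ =
        bM b ^ m * ((v : ↥M) * w * (v : ↥M)⁻¹ * (w : ↥M)⁻¹) * (bM b ^ m)⁻¹ by group, (hbc m _).eq,
      mul_inv_cancel_right]
    exact mul_mem (mul_mem (mul_mem v.2 w.2) (inv_mem v.2)) (inv_mem w.2)
  obtain ⟨a1, a2, ha12⟩ := Cfsg.Agent.J2Cert.noncomm_J2
  have hne : ¬ ∀ u v : ↥L, u * v = v * u := fun hall => ha12 (by
    obtain ⟨u, rfl⟩ := ((MulEquiv.ofBijective φ ⟨hφi, hφs⟩).trans eJ).surjective a1
    obtain ⟨v, rfl⟩ := ((MulEquiv.ofBijective φ ⟨hφi, hφs⟩).trans eJ).surjective a2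
    rw [← map_mul, hall u v, map_mul])
  have hqs : Cfsg.IsQuasisimple ↥L := by
    refine Grp.isQuasisimple_of ⟨?_⟩ fun N hN => ?_
    · refine (IsSimpleGroup.eq_bot_or_eq_top_of_normal _ inferInstance).resolve_left fun e => hne fun u v => ?_
      have := Subgroup.commutator_mem_commutator (Subgroup.mem_top u) (Subgroup.mem_top v)
      rw [← commutator_def, e, Subgroup.mem_bot] at this
      exact commutatorElement_eq_one_iff_mul_comm.1 this
    · exact ((IsSimpleGroup.eq_bot_or_eq_top_of_normal N hN).imp (fun e => by rw [e]; exact bot_le) id).symm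
  have hlayer : Cfsg.layer ↥M = L := by
    refine le_antisymm (sSup_le fun K hK => ?_) (Grp.IsComponent.le_layer ⟨Subgroup.Normal.isSubnormal hLn, hqs⟩)
    rw [← Grp.IsComponent.perfect hK]
    exact (Subgroup.commutator_mono le_top le_top).trans (by rw [← commutator_def]; exact hcomm)
  have hmap : L.map M.subtype = L0 := Subgroup.map_subgroupOf_eq_of_le hLM
  rw [hlayer, hmap]
  refine ⟨⟨(MulEquiv.ofBijective φ ⟨hφi, hφs⟩).trans eJ⟩, ⟨(MulEquiv.subgroupCongr ?_).trans eR⟩⟩
  refine le_antisymm (fun y hy => ?_) fun y hy => Subgroup.mem_centralizer_iff.2 fun a ha => (hLR ha hy).symm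
  rw [Subgroup.mem_centralizer_iff] at hy
  refine Subgroup.mem_inf.2 ⟨mem_Y.2 ⟨(hy z (hL1 (hY0 (z_QS h true)))).symm, fun q hq hqs => hy q (hL1 (hY0 ⟨hq, hqs⟩))⟩,
    Subgroup.mem_centralizer_singleton_iff.2 (hy _ (hL2 (hY0 hrS))).symm⟩

end Cfsg.Agent.Invol.Co1.Five
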