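import Cfsg.Agent.Lib.Invol.Co1.Five.Cent
import Cfsg.Agent.Lib.Invol.HJ.Classes

/-!
# The centralizer of the five-element modulo the five-element
-/

set_option autoImplicit false
set_option linter.unusedSectionVars false
set_option maxRecDepth 100000

namespace Cfsg.Agent.Invol.Co1.Five

open Cfsg.Agent.Classical.BinCoc Cfsg.Agent.Invol.Big Cfsg.Agent.Invol.Big.Code

variable {G : Type*} [Group G] [Finite G] {z : G} {Q : Subgroup G} {cd : G → ℕ}

theorem sol_ok : (136 ∈ spn true ∧ 42 ∈ spn true ∧ 16 ∈ spn true ∧ 1 ∈ spn true ∧ 136 ∈ rs ∧ bq K8 16 1 = true ∧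
    (136 : ℕ) ^^^ 0 = 136 ∧ (0 : ℕ) ∈ rs) := by decide +kernel

/-- A permuted coset of a group of order prime to five has a fixed member. -/
theorem exists_fixed {b : G} (h5 : b ^ 5 = 1) {D : Subgroup G} (hD : ¬ 5 ∣ Nat.card D) (x0 : G)
    (hinv : ∀ d ∈ D, x0⁻¹ * (b * (x0 * d) * b⁻¹) ∈ D) : ∃ d ∈ D, b * (x0 * d) = x0 * d * b := by
  classical
  haveI : Fact (Nat.Prime 5) := ⟨by norm_num⟩
  haveI := Fintype.ofFinite D
  let f : D → D := fun d => ⟨_, hinv d d.2⟩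
  have hf : Function.Injective f := fun a c e => Subtype.ext (by simpa [f] using congrArg Subtype.val e)
  set σ : Equiv.Perm D := Equiv.ofBijective f (Finite.injective_iff_bijective.1 hf) with hσ
  have hpow : ∀ (n : ℕ) (d : D), (((σ ^ n) d : D) : G) = x0⁻¹ * (b ^ n * (x0 * d) * (b ^ n)⁻¹) := by
    intro n
    induction n with
    | zero => intro d; simp
    | succ n ih =>
      intro d
      rw [pow_succ', Equiv.Perm.mul_apply, hσ, Equiv.ofBijective_apply]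
      show x0⁻¹ * (b * (x0 * (((σ ^ n) d : D) : G)) * b⁻¹) = _
      rw [ih, pow_succ']
      group
  obtain ⟨d, hd⟩ := Equiv.Perm.exists_fixed_point_of_prime (p := 5) (n := 1)
    (by rwa [← Nat.card_eq_fintype_card]) (σ := σ) (Equiv.ext fun d => Subtype.ext (by rw [pow_one, hpow, h5]; simp))
  refine ⟨d, d.2, ?_⟩
  have e := congrArg Subtype.val hd
  rw [hσ, Equiv.ofBijective_apply] at e
  have e' : x0⁻¹ * (b * (x0 * d) * b⁻¹) = (d : G) := e
  rw [inv_mul_eq_iff_eq_mul, mul_inv_eq_iff_eq_mul] at e'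
  exact e'

theorem Five.bt {h : Code K8 z Q cd} {b g : G} (F : Five h b) (P : Pr z Q cd g) : b * (g * z * g⁻¹) = g * z * g⁻¹ * b := by
  obtain ⟨τ, hτ, h1, -⟩ := F.rel
  refine fix_commute (h := h) F.comm F.pow P.hg ?_
  rw [P.hv]
  exact hτ.fix_spn h1 sol_ok.2.2.2.1

theorem five_dvd {D : Subgroup G} (hQ : Nat.card Q = 512) {g : G} (hD : D ≤ Qc Q g) : ¬ 5 ∣ Nat.card D := fun h5 => by
  have hd := h5.trans (Subgroup.card_dvd_of_le hD)
  rw [Qc, ← Nat.card_congr (Q.equivMapOfInjective _ (MulAut.conj g).injective).toEquiv, hQ] at hd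
  norm_num at hd

/-- A member of the second extraspecial group moving the centre and commuting with the five-element. -/
theorem Five.exists_x {h : Code K8 z Q cd} {b : G} (F : Five h b) {g : G} (P : Pr z Q cd g) (hQ : Nat.card Q = 512) :
    ∃ x, x * b = b * x ∧ x * z * x⁻¹ = z * (g * z * g⁻¹) ∧ x * (g * z * g⁻¹) = g * z * g⁻¹ * x := by
  set t := g * z * g⁻¹ with ht
  have E := P.code.extc g
  have hzQc : z ∈ Qc Q g := P.code.symm P.big P.hg
  obtain ⟨x0, hx0, hne⟩ : ∃ x0 ∈ Qc Q g, x0 * z ≠ z * x0 := by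
    by_contra hcon
    push Not at hcon
    rcases E.cen z hzQc hcon with e | e
    · exact P.code.ne e
    · exact P.hne e.symm
  have hx0z : x0 * z * x0⁻¹ = z * t := ((E.conj_cases hzQc hx0).resolve_left hne).2
  set D := Qc Q g ⊓ Subgroup.centralizer ({z} : Set G)
  obtain ⟨d, hd, he⟩ := exists_fixed F.pow (D := D) (five_dvd hQ inf_le_left) x0 (fun d hd => by
    obtain ⟨hd1, hd2⟩ := Subgroup.mem_inf.1 hd
    have hdz : d * z * d⁻¹ = z := mul_inv_eq_iff_eq_mul.2 (Subgroup.mem_centralizer_singleton_iff.1 hd2)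
    have hy : b * (x0 * d) * b⁻¹ ∈ Qc Q g := E.norm b (F.bt P) _ (mul_mem hx0 hd1)
    refine Subgroup.mem_inf.2 ⟨mul_mem (inv_mem hx0) hy, Subgroup.mem_centralizer_singleton_iff.2 ?_⟩
    refine mul_inv_eq_iff_eq_mul.1 ?_
    have ebz : b⁻¹ * z * b = z := by rw [mul_assoc, ← F.comm, inv_mul_cancel_left]
    calc x0⁻¹ * (b * (x0 * d) * b⁻¹) * z * (x0⁻¹ * (b * (x0 * d) * b⁻¹))⁻¹ =
        x0⁻¹ * (b * (x0 * (d * (b⁻¹ * z * b) * d⁻¹) * x0⁻¹) * b⁻¹) * x0 := by group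
      _ = x0⁻¹ * ((b * z * b⁻¹) * (b * t * b⁻¹)) * x0 := by rw [ebz, hdz, hx0z]; group
      _ = x0⁻¹ * (z * t) * x0 := by rw [mul_inv_eq_iff_eq_mul.2 F.comm, mul_inv_eq_iff_eq_mul.2 (F.bt P)]
      _ = z := by rw [← hx0z]; group)
  obtain ⟨hd1, hd2⟩ := Subgroup.mem_inf.1 hd
  refine ⟨x0 * d, he.symm, ?_, E.central _ (mul_mem hx0 hd1)⟩
  rw [show x0 * d * z * (x0 * d)⁻¹ = x0 * (d * z * d⁻¹) * x0⁻¹ by group,
    mul_inv_eq_iff_eq_mul.2 (Subgroup.mem_centralizer_singleton_iff.1 hd2), hx0z]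

/-- A representative of the third class commuting with the five-element. -/
theorem Five.exists_y {h : Code K8 z Q cd} {b : G} (F : Five h b) {g : G} (P : Pr z Q cd g) (hQ : Nat.card Q = 512) :
    ∃ y, y * b = b * y ∧ P.IsP y := by
  obtain ⟨τ, hτ, h1, -⟩ := F.rel
  obtain ⟨p0, hp0⟩ := P.exists_inP sol_ok.2.2.2.2.1
  have h136 : h.act b 136 = 136 := hτ.fix_spn h1 sol_ok.1
  have hbt := mul_inv_eq_iff_eq_mul.2 (F.bt P)
  have hD0 : ∀ d ∈ Q ⊓ Qc Q g, InP P.code g (p0 * d) 136 := fun d hd => by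
    obtain ⟨hd1, hd2⟩ := Subgroup.mem_inf.1 hd
    have hd0 : InP P.code g d 0 := ⟨hd2, P.code.ext.central d hd1, sol_ok.2.2.2.2.2.2.2, P.code.ext.central d hd1,
      fun a ha => by rw [(P.code.mem_iff (P.code.ext.central d hd1)).1 hd1 a ha, tE_zero]⟩
    have := P.inP_mul hp0 hd0
    rwa [sol_ok.2.2.2.2.2.2.1] at this
  obtain ⟨d, hd, he⟩ := exists_fixed F.pow (D := Q ⊓ Qc Q g) (five_dvd hQ inf_le_right) p0 (fun d hd => by
    have hp' := P.inP_conj (hD0 d hd) F.comm hbt (by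
      show h.act b 136 ∈ rs
      rw [h136]; exact sol_ok.2.2.2.2.1)
    rw [show P.code.act b 136 = 136 from h136] at hp'
    exact Subgroup.mem_inf.2 (P.inP_div hp0 hp'))
  have h42 : h.act b (cd (h.rep 42)) = cd (h.rep 42) := by
    rw [h.cd_rep (show (42 : ℕ) < 2 ^ K8.n by rw [K8_n]; norm_num)]
    exact hτ.fix_spn h1 sol_ok.2.1
  refine ⟨p0 * d * h.rep 42, ?_, ⟨p0 * d, hD0 d hd, rfl⟩⟩
  rw [mul_assoc, ← fix_commute F.comm F.pow (h.rep_mem 42) h42, ← mul_assoc, ← he, mul_assoc]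

/-- The five-element in its centralizer. -/
def bM (b : G) : ↥(Subgroup.centralizer ({b} : Set G)) := ⟨b, Subgroup.mem_centralizer_singleton_iff.2 rfl⟩

instance zpowers_bM_normal (b : G) : (Subgroup.zpowers (bM b)).Normal := ⟨fun n hn u => by
  obtain ⟨i, rfl⟩ := Subgroup.mem_zpowers_iff.1 hn
  have hc : Commute u (bM b) := Subtype.ext (Subgroup.mem_centralizer_singleton_iff.1 u.2)
  rw [(hc.zpow_right i).eq, mul_inv_cancel_right]
  exact ⟨i, rfl⟩⟩

/-- The centralizer modulo the element. -/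
abbrev MB (b : G) : Type _ := ↥(Subgroup.centralizer ({b} : Set G)) ⧸ Subgroup.zpowers (bM b)

/-- The projection. -/
def mkB (b : G) : ↥(Subgroup.centralizer ({b} : Set G)) →* MB b := QuotientGroup.mk' _

theorem mkB_surj (b : G) : Function.Surjective (mkB b) := QuotientGroup.mk'_surjective _

theorem mkB_pow (b : G) (n : ℕ) : mkB b (bM b ^ n) = 1 :=
  (QuotientGroup.eq_one_iff _).2 (pow_mem (Subgroup.mem_zpowers _) n)

theorem mkB_eq {b : G} {u v : ↥(Subgroup.centralizer ({b} : Set G))} (e : mkB b u = mkB b v) :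
    ∃ n : ℕ, (v : G) = u * b ^ n := by
  have := QuotientGroup.eq.1 e
  rw [← mem_powers_iff_mem_zpowers] at this
  obtain ⟨n, hn⟩ := this
  simp only at hn
  exact ⟨n, by rw [show b ^ n = ((bM b ^ n : ↥(Subgroup.centralizer ({b} : Set G))) : G) from rfl, hn]; simp⟩

theorem mkB_inj4 {b : G} (h5 : b ^ 5 = 1) {u v : ↥(Subgroup.centralizer ({b} : Set G))} (hu : (u : G) ^ 4 = 1)
    (hv : (v : G) ^ 4 = 1) (e : mkB b u = mkB b v) : (u : G) = v := by
  obtain ⟨n, hn⟩ := mkB_eq e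
  have hc : Commute (u : G) (b ^ n) := (show Commute (u : G) b from Subgroup.mem_centralizer_singleton_iff.1 u.2).pow_right n
  have h4 : (b ^ n) ^ 4 = 1 := by
    have := congrArg (· ^ 4) hn
    simp only [hc.mul_pow, hu, hv, one_mul] at this
    exact this.symm
  have h5' : (b ^ n) ^ 5 = 1 := by rw [← pow_mul, mul_comm, pow_mul, h5, one_pow]
  rw [pow_succ, h4, one_mul] at h5'
  rw [hn, h5', mul_one]

variable {h : Code K8 z Q cd} {b : G}

theorem pow_four (h : Code K8 z Q cd) {q : G} (hq : q ∈ Q) : q ^ 4 = 1 := by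
  rw [show (4 : ℕ) = 2 * 2 from rfl, pow_mul, pow_two, pow_two]
  rcases h.ext.sq q hq with e | e <;> rw [e]
  · rw [one_mul]
  · exact h.ext.zz

theorem mem_QS_of_Y {s : Bool} {y : G} (hy : y ∈ Y h s) (hyQ : y ∈ Q) : y ∈ QS h (!s) :=
  ⟨hyQ, (bq_perp (h.lt _ hyQ)).2 fun i => by
    have hp : pt s i < 2 ^ K8.n := pt_lt s i
    have := (h.commute_iff (h.rep_mem _) hyQ).1 ((mem_Y.1 hy).2 _ (h.rep_mem _) (by rw [h.cd_rep hp]; exact pt_spn s i))
    rwa [h.cd_rep hp] at this⟩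

theorem QS_inter {s : Bool} {y : G} (h1 : y ∈ QS h s) (h2 : y ∈ QS h (!s)) : y = 1 ∨ y = z :=
  (h.ker y h1.1).1 (spn_inter h1.2 h2.2)

theorem Y_inter {y : G} (h1 : y ∈ Y h true) (h2 : y ∈ Y h false) : y = 1 ∨ y = z := by
  obtain ⟨ρ, hρ, e1⟩ := Y_rel h1
  obtain ⟨ρ', hρ', e2⟩ := Y_rel h2
  obtain rfl := hρ.unique hρ'
  rw [show ρ = 1 from funext fun s => by cases s; exacts [e2, e1]] at hρ
  exact QS_inter (mem_QS_of_Y h2 hρ.mem_Q) (mem_QS_of_Y h1 hρ.mem_Q)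

theorem Five.commute_Y (F : Five h b) (hQ : Nat.card Q = 512)
    (hcard : Nat.card (Subgroup.centralizer ({z} : Set G)) = 42525 * (2 ^ 12 * Nat.card Q)) {y : G}
    (hy : y ∈ Y h false) : y * b = b * y :=
  (Y_commute h hQ hcard (s := true) F.memY hy).symm

theorem Five.QS_comm (F : Five h b) {q : G} (hq : q ∈ QS h true) : q * b = b * q := (mem_Y.1 F.memY).2 q hq.1 hq.2

/-- The image of the centre. -/
def Five.zb (F : Five h b) : MB b := mkB b ⟨z, Subgroup.mem_centralizer_singleton_iff.2 F.comm.symm⟩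

/-- The image of the first solid. -/
def Qb (h : Code K8 z Q cd) (b : G) : Subgroup (MB b) :=
  ((QS h true).subgroupOf (Subgroup.centralizer ({b} : Set G))).map (mkB b)

theorem Five.cent_lift (F : Five h b) {x : MB b} (hx : x * F.zb = F.zb * x) :
    ∃ c : ↥(Subgroup.centralizer ({b} : Set G)), mkB b c = x ∧ (c : G) * z = z * c := by
  obtain ⟨c, rfl⟩ := mkB_surj b x
  refine ⟨c, rfl, mul_inv_eq_iff_eq_mul.1 ?_⟩
  set zM : ↥(Subgroup.centralizer ({b} : Set G)) := ⟨z, Subgroup.mem_centralizer_singleton_iff.2 F.comm.symm⟩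
  have := mkB_inj4 F.pow (u := c * zM * c⁻¹) (v := zM)
    (by show ((c : G) * z * (c : G)⁻¹) ^ 4 = 1; rw [conj_pow, pow_four h h.ext.mem]; simp)
    (pow_four h h.ext.mem) (by
      rw [map_mul, map_mul, map_inv, mul_inv_eq_iff_eq_mul]
      exact hx)
  simpa using this

/-- The data of a member commuting with the centre. -/
theorem Five.decomp (F : Five h b) (hQ : Nat.card Q = 512)
    (hcard : Nat.card (Subgroup.centralizer ({z} : Set G)) = 42525 * (2 ^ 12 * Nat.card Q))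
    {c : ↥(Subgroup.centralizer ({b} : Set G))} (hcz : (c : G) * z = z * c) :
    ∃ (i : ℕ) (y : ↥(Subgroup.centralizer ({b} : Set G))) (σ : Bool → Equiv.Perm (Fin 5)), (y : G) ∈ Y h false ∧
      c = bM b ^ i * y ∧ Rel h (y : G) σ ∧ σ false = 1 ∧ Equiv.Perm.sign (σ true) = 1 ∧
      ∃ τ, Rel h (c : G) τ ∧ τ true = σ true := by
  obtain ⟨i, y, hy, he⟩ := F.cent hcard hQ hcz (Subgroup.mem_centralizer_singleton_iff.1 c.2).symm
  obtain ⟨σ, hσ, hσs⟩ := Y_rel hy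
  obtain ⟨τ, hτ, hτ1, -⟩ := F.rel
  refine ⟨i, ⟨y, Subgroup.mem_centralizer_singleton_iff.2 (F.commute_Y hQ hcard hy)⟩, σ, hy, Subtype.ext he, hσ, hσs,
    ?_, τ ^ i * σ, ?_, by simp [hτ1]⟩
  · have := hσ.even hcard hQ
    rwa [hσs, map_one, mul_one] at this
  · show Rel h (c : G) _
    rw [he]
    exact (hτ.pow i).mul hσ

/-- The core data in the quotient. -/
theorem Five.core (F : Five h b) (hQ : Nat.card Q = 512)
    (hcard : Nat.card (Subgroup.centralizer ({z} : Set G)) = 42525 * (2 ^ 12 * Nat.card Q)) :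
    HJ.Core F.zb (Qb h b) := by
  classical
  set M := Subgroup.centralizer ({b} : Set G)
  set zM : ↥M := ⟨z, Subgroup.mem_centralizer_singleton_iff.2 F.comm.symm⟩ with hzM
  have hzb : F.zb = mkB b zM := rfl
  have hmem : ∀ {u : MB b}, u ∈ Qb h b → ∃ q : ↥M, (q : G) ∈ QS h true ∧ mkB b q = u := fun ⟨q, hq, e⟩ => ⟨q, hq, e⟩
  have hC : ∀ {x : MB b}, x ∈ Subgroup.centralizer ({F.zb} : Set (MB b)) → ∃ c : ↥M, mkB b c = x ∧ (c : G) * z = z * c :=
    fun {x} hx => F.cent_lift (Subgroup.mem_centralizer_singleton_iff.1 hx)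
  have hq4 : ∀ {q : ↥M}, (q : G) ∈ QS h true → (q : G) ^ 4 = 1 := fun hq => pow_four h hq.1
  have hpres : ∀ {c : ↥M}, (c : G) * z = z * c → ∀ {q : ↥M}, (q : G) ∈ QS h true →
      ((c * q * c⁻¹ : ↥M) : G) ∈ QS h true := by
    intro c hc q hq
    obtain ⟨-, -, -, -, -, -, -, -, τ, hτ, -⟩ := F.decomp hQ hcard hc
    refine ⟨h.ext.norm _ hc _ hq.1, ?_⟩
    have := hτ.act_spn hq.2
    rwa [h.act_cd hc hq.1] at this
  refine
    { hz := ?_, mem_z := ⟨zM, z_QS h true, rfl⟩, le_C := ?_, norm := ?_, card_Q := ?_, sq := ?_, comm := ?_,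
      cen := ?_, cent := ?_, quot := ?_ }
  · refine HJ.orderOf_two_iff'.2 ⟨?_, fun e => h.ne ?_⟩
    · rw [hzb, ← map_mul, show zM * zM = 1 from Subtype.ext h.ext.zz, map_one]
    · exact mkB_inj4 F.pow (u := zM) (v := 1) (pow_four h h.ext.mem) (by simp) (by rw [map_one]; exact e)
  · intro u hu
    obtain ⟨q, hq, rfl⟩ := hmem hu
    rw [Subgroup.mem_centralizer_singleton_iff, hzb, ← map_mul, ← map_mul]
    exact congrArg _ (Subtype.ext (h.ext.central _ hq.1))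
  · intro x hx u hu
    obtain ⟨c, rfl, hc⟩ := hC hx
    obtain ⟨q, hq, rfl⟩ := hmem hu
    exact ⟨c * q * c⁻¹, hpres hc hq, by rw [map_mul, map_mul, map_inv]⟩
  · rw [← card_QS h true]
    refine (Nat.card_congr (Equiv.ofBijective (fun q : ↥(QS h true) => (⟨mkB b ⟨q, Subgroup.mem_centralizer_singleton_iff.2
      (F.QS_comm q.2)⟩, ⟨_, q.2, rfl⟩⟩ : ↥(Qb h b))) ⟨fun a c e => ?_, fun u => ?_⟩)).symm
    · exact Subtype.ext (mkB_inj4 F.pow (pow_four h a.2.1) (pow_four h c.2.1) (congrArg Subtype.val e))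
    · obtain ⟨q, hq, e⟩ := hmem u.2
      exact ⟨⟨q, hq⟩, Subtype.ext e⟩
  · intro u hu
    obtain ⟨q, hq, rfl⟩ := hmem hu
    rw [hzb, ← map_mul, ← map_one (mkB b)]
    exact (h.ext.sq _ hq.1).imp (fun e => congrArg _ (Subtype.ext e)) fun e => congrArg _ (Subtype.ext e)
  · intro u hu v hv
    obtain ⟨p, hp, rfl⟩ := hmem hu
    obtain ⟨q, hq, rfl⟩ := hmem hv
    rw [hzb, ← map_mul, ← map_mul, ← map_mul]
    refine (h.ext.comm _ hp.1 _ hq.1).imp (fun e => congrArg _ (Subtype.ext ?_)) fun e => congrArg _ (Subtype.ext ?_)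
    · exact commutatorElement_eq_one_iff_mul_comm.1 e
    · rw [commutatorElement_def, mul_inv_eq_iff_eq_mul, mul_inv_eq_iff_eq_mul, mul_assoc] at e
      exact e
  · intro u hu hcom
    obtain ⟨p, hp, rfl⟩ := hmem hu
    have hpY : (p : G) ∈ Y h true := mem_Y.2 ⟨h.ext.central _ hp.1, fun q hq hqs => by
      have hqM : q ∈ M := Subgroup.mem_centralizer_singleton_iff.2 (F.QS_comm ⟨hq, hqs⟩)
      have := hcom _ ⟨⟨q, hqM⟩, ⟨hq, hqs⟩, rfl⟩
      rw [← map_mul, ← map_mul] at this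
      exact (mkB_inj4 F.pow (u := p * ⟨q, hqM⟩) (v := ⟨q, hqM⟩ * p) (pow_four h (mul_mem hp.1 hq))
        (pow_four h (mul_mem hq hp.1)) this).symm⟩
    rcases QS_inter (s := true) hp (mem_QS_of_Y hpY hp.1) with e | e
    · exact Or.inl (by rw [show p = 1 from Subtype.ext e, map_one])
    · exact Or.inr (by rw [show p = zM from Subtype.ext e, hzb])
  · intro x hx hcom
    obtain ⟨c, rfl, hc⟩ := hC hx
    obtain ⟨i, y, σ, hy, he, -⟩ := F.decomp hQ hcard hc
    subst he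
    have hyQ : (y : G) ∈ Y h true := mem_Y.2 ⟨(mem_Y.1 hy).1, fun q hq hqs => by
      have hqM : q ∈ M := Subgroup.mem_centralizer_singleton_iff.2 (F.QS_comm ⟨hq, hqs⟩)
      have := hcom _ ⟨⟨q, hqM⟩, ⟨hq, hqs⟩, rfl⟩
      simp only [map_mul, mkB_pow, one_mul] at this
      rw [← map_mul, ← map_mul] at this
      have hn := hpres (c := y) (mem_Y.1 hy).1 (q := ⟨q, hqM⟩) ⟨hq, hqs⟩
      have e := mkB_inj4 F.pow (u := y * ⟨q, hqM⟩ * y⁻¹) (v := ⟨q, hqM⟩) (pow_four h hn.1) (pow_four h hq)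
        (by rw [map_mul _ (_ * _), this, map_mul, map_inv, mul_inv_cancel_right])
      exact (mul_inv_eq_iff_eq_mul.1 e).symm⟩
    rw [map_mul, mkB_pow, one_mul]
    rcases Y_inter hyQ hy with e | e
    · exact ⟨1, one_mem _, by rw [map_one, show y = 1 from Subtype.ext e, map_one]⟩
    · exact ⟨zM, z_QS h true, congrArg _ (Subtype.ext e.symm)⟩
  · have uniq : ∀ (c c' : ↥M) (σ σ' : Bool → Equiv.Perm (Fin 5)), mkB b c = mkB b c' → Rel h (c : G) σ →
        Rel h (c' : G) σ' → σ true = σ' true := by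
      intro c c' σ σ' e hσ hσ'
      obtain ⟨n, hn⟩ := mkB_eq e
      obtain ⟨τ, hτ, hτ1, -⟩ := F.rel
      have := hσ.mul (hτ.pow n)
      rw [← hn] at this
      rw [congrFun (hσ'.unique this) true]
      simp [hτ1]
    have key : ∀ x : ↥(Subgroup.centralizer ({F.zb} : Set (MB b))), ∃ (α : alternatingGroup (Fin 5)) (c : ↥M)
        (σ : Bool → Equiv.Perm (Fin 5)), mkB b c = x ∧ Rel h (c : G) σ ∧ σ true = (α : Equiv.Perm (Fin 5)) := by
      intro x
      obtain ⟨c, hcx, hc⟩ := hC x.2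
      obtain ⟨i, y, σ, -, -, -, -, hev, τ, hτ, hτσ⟩ := F.decomp hQ hcard hc
      exact ⟨⟨_, Equiv.Perm.mem_alternatingGroup.2 hev⟩, c, τ, hcx, hτ, hτσ⟩
    choose f c σ hc hσ hf using key
    let π : ↥(Subgroup.centralizer ({F.zb} : Set (MB b))) →* alternatingGroup (Fin 5) := MonoidHom.mk' f fun x y =>
      Subtype.ext (by
        rw [Subgroup.coe_mul, ← hf, ← hf, ← hf]
        exact uniq (c (x * y)) (c x * c y) _ _ (by rw [map_mul, hc, hc, hc]; rfl) (hσ _) ((hσ x).mul (hσ y)))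
    refine ⟨π, fun α => ?_, fun x => ⟨fun e => ?_, fun hx => ?_⟩⟩
    · obtain ⟨π0, hs0, -, hv0⟩ := exists_alt h hQ hcard false
      obtain ⟨y, rfl⟩ := hs0 α
      obtain ⟨ρ, hρ, -⟩ := Y_rel y.2
      have hyM : (y : G) ∈ M := Subgroup.mem_centralizer_singleton_iff.2 (F.commute_Y hQ hcard y.2)
      have hyC : mkB b ⟨y, hyM⟩ ∈ Subgroup.centralizer ({F.zb} : Set (MB b)) := by
        rw [Subgroup.mem_centralizer_singleton_iff, hzb, ← map_mul, ← map_mul]
        exact congrArg _ (Subtype.ext (mem_Y.1 y.2).1)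
      refine ⟨⟨_, hyC⟩, Subtype.ext ?_⟩
      show (f _ : Equiv.Perm (Fin 5)) = _
      rw [← hf, hv0 y ρ hρ]
      exact uniq _ ⟨(y : G), hyM⟩ _ _ (hc _) (hσ _) hρ
    · obtain ⟨c', hcx, hcz⟩ := hC x.2
      obtain ⟨i, y, ρ, hy, he, hρ, hρ0, -, τ, hτ, hτρ⟩ := F.decomp hQ hcard hcz
      have h1 : τ true = 1 := by
        rw [uniq c' (c x) τ (σ x) (by rw [hcx, hc]) hτ (hσ x), hf]
        exact congrArg Subtype.val e
      rw [show ρ = 1 from funext fun s => by cases s; exacts [hρ0, hτρ ▸ h1]] at hρ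
      exact ⟨y, mem_QS_of_Y hy hρ.mem_Q, by rw [← hcx, he, map_mul, mkB_pow, one_mul]⟩
    · obtain ⟨q, hq, e⟩ := hmem hx
      refine Subtype.ext ?_
      show (f x : Equiv.Perm (Fin 5)) = 1
      rw [← hf]
      exact uniq (c x) q _ 1 (by rw [hc, e]) (hσ x) (Rel.of_mem hq.1)

/-- The quotient is of Hall-Janko type. -/
theorem Five.setting (F : Five h b) {g : G} (P : Pr z Q cd g) (hQ : Nat.card Q = 512)
    (hcard : Nat.card (Subgroup.centralizer ({z} : Set G)) = 42525 * (2 ^ 12 * Nat.card Q)) :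
    HJ.Setting F.zb (Qb h b) := by
  have C := F.core hQ hcard
  obtain ⟨x, hxb, hxz, -⟩ := F.exists_x P hQ
  have hztS : z * (g * z * g⁻¹) ∈ QS h true := mul_mem (z_QS h true) ⟨P.hg, by rw [P.hv]; exact sol_ok.2.2.2.1⟩
  refine ⟨C, ⟨mkB b ⟨x, Subgroup.mem_centralizer_singleton_iff.2 hxb⟩, ?_, fun e => ?_⟩, ?_⟩
  · refine ⟨⟨_, Subgroup.mem_centralizer_singleton_iff.2 (F.QS_comm hztS)⟩, hztS, ?_⟩
    rw [Five.zb, ← map_inv, ← map_mul, ← map_mul]
    exact congrArg _ (Subtype.ext hxz.symm)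
  · rw [Five.zb, ← map_inv, ← map_mul, ← map_mul] at e
    have e' := mkB_inj4 F.pow (by
      show (x * z * x⁻¹) ^ 4 = 1
      rw [hxz]; exact pow_four h hztS.1) (pow_four h h.ext.mem) e
    have e'' : x * z * x⁻¹ = z := e'
    rw [hxz] at e''
    exact (P.code.extc g).ne (mul_eq_left.1 e'')
  obtain ⟨y, hyb, hy⟩ := F.exists_y P hQ
  have hy2 := (P.isP_spec hy).1
  have hy4 : y ^ 4 = 1 := by rw [show (4 : ℕ) = 2 * 2 from rfl, pow_mul, pow_two y, hy2, one_pow]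
  set yM : ↥(Subgroup.centralizer ({b} : Set G)) := ⟨y, Subgroup.mem_centralizer_singleton_iff.2 hyb⟩
  refine ⟨F.zb, mkB b yM, C.hz, HJ.orderOf_two_iff'.2 ⟨?_, fun e => ?_⟩, fun hc => ?_⟩
  · rw [← map_mul, show yM * yM = 1 from Subtype.ext hy2, map_one]
  · have : y = 1 := mkB_inj4 F.pow (u := yM) (v := 1) hy4 (by simp) (by rw [map_one]; exact e)
    have h16 := (P.isP_spec hy).2.2.2 16 (by rw [K8_n]; norm_num)
    subst this
    rw [P.code.act_one (show (16 : ℕ) < 2 ^ K8.n by rw [K8_n]; norm_num)] at h16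
    exact absurd h16 (by decide +kernel)
  · obtain ⟨m, hm⟩ := isConj_iff.1 hc
    obtain ⟨m, rfl⟩ := mkB_surj b m
    rw [Five.zb, ← map_inv, ← map_mul, ← map_mul] at hm
    have e' := mkB_inj4 F.pow (by
      show ((m : G) * z * (m : G)⁻¹) ^ 4 = 1
      rw [conj_pow, pow_four h h.ext.mem]; simp) hy4 hm
    exact P.not_conj_z_P hcard hy (isConj_iff.2 ⟨(m : G), e'⟩)

end Cfsg.Agent.Invol.Co1.Five
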