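import Cfsg.Agent.Lib.Invol.Co1.Five.Words

/-!
# The stabilizer of the two solids
-/

set_option autoImplicit false
set_option linter.unusedSectionVars false

namespace Cfsg.Agent.Invol.Co1.Five

open Cfsg.Agent.Classical.BinCoc Cfsg.Agent.Invol.Big Cfsg.Agent.Invol.Big.Code

variable {G : Type*} [Group G] [Finite G] {z : G} {Q : Subgroup G} {cd : G → ℕ}

theorem pt_lt (s : Bool) (i : Fin 5) : pt s i < 256 := ((pp_ok s).2.2 i).1

theorem pt_inj {s : Bool} {i j : Fin 5} (e : pt s i = pt s j) : i = j := by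
  obtain ⟨hn, hl, -⟩ := pp_ok s
  unfold pt at e
  rw [List.getD_eq_getElem _ _ (by omega), List.getD_eq_getElem _ _ (by omega)] at e
  exact Fin.ext (hn.getElem_inj_iff.1 e)

theorem mem_pp {s : Bool} {v : ℕ} (hv : v ∈ pp s) : ∃ i, pt s i = v := by
  obtain ⟨k, hk, rfl⟩ := List.getElem_of_mem hv
  exact ⟨⟨k, by rw [(pp_ok s).2.1] at hk; exact hk⟩, List.getD_eq_getElem _ _ hk⟩

theorem spn_lt {s : Bool} {v : ℕ} (hv : v ∈ spn s) : v < 256 := by
  have h := sing_ok s
  simp only [List.all_eq_true, Bool.and_eq_true, decide_eq_true_eq] at h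
  exact (h v hv).1

theorem bq_perp {s : Bool} {v : ℕ} (hv : v < 256) :
    v ∈ spn (!s) ↔ ∀ i, bq K8 (pt s i) v = false := by
  have h := perp_ok s
  simp only [List.all_eq_true, List.mem_range, beq_iff_eq] at h
  have h' := h v hv
  rw [← List.contains_iff_mem, ← h', List.all_eq_true]
  refine ⟨fun k i => ?_, fun k u hu => ?_⟩
  · have hm : pt s i ∈ pp s := by
      obtain ⟨-, hl, -⟩ := pp_ok s
      unfold pt
      rw [List.getD_eq_getElem _ _ (by omega)]
      exact List.getElem_mem _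
    simpa using k _ hm
  · obtain ⟨i, rfl⟩ := mem_pp hu
    simpa using k i

theorem wd_lt' {l : List ℕ} (hl : ∀ x ∈ l, x < 256) {a : ℕ} (ha : a < 256) : wd K8 l a < 256 := wd_tr_lt hl ha

theorem lin_any (h : Code K8 z Q cd) {l : List ℕ} (hl : ∀ x ∈ l, x < 256) : Lin (wd K8 l) := by
  induction l with
  | nil => exact lin_id
  | cons x w ih =>
    intro a ha b hb
    have hw : ∀ y ∈ w, y < 256 := fun y hy => hl y (List.mem_cons_of_mem _ hy)
    have hx := hl x (List.mem_cons_self ..)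
    have k1 := wd_lt' hw ha
    have k2 := wd_lt' hw hb
    show tr K8 x (wd K8 w (a ^^^ b)) = tr K8 x (wd K8 w a) ^^^ tr K8 x (wd K8 w b)
    rw [ih hw a ha b hb]
    simp only [tr]
    rw [bq_addr h k1 k2 hx]
    cases bq K8 x (wd K8 w a) <;> cases bq K8 x (wd K8 w b) <;>
      simp [Nat.xor_assoc, Nat.xor_comm, Nat.xor_left_comm]

theorem pw_lt (σ : Bool → Equiv.Perm (Fin 5)) : ∀ x ∈ pw σ, x < 256 := by
  intro x hx
  rcases List.mem_append.1 hx with hx | hx <;>
  · have := List.all_eq_true.1 (word_ok _ _).1 x hx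
    simp only [Bool.and_eq_true, decide_eq_true_eq] at this
    exact this.2

theorem word_lt (s : Bool) (σ : Equiv.Perm (Fin 5)) : ∀ x ∈ word s σ, x < 256 := by
  intro x hx
  have := List.all_eq_true.1 (word_ok s σ).1 x hx
  simp only [Bool.and_eq_true, decide_eq_true_eq] at this
  exact this.2

theorem pw_pt (σ : Bool → Equiv.Perm (Fin 5)) (s : Bool) (i : Fin 5) : wd K8 (pw σ) (pt s i) = pt s (σ s i) := by
  rw [pw, wd_append]
  cases s
  · rw [((word_ok false _).2.2 i).1]
    exact ((word_ok true _).2.2 _).2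
  · rw [show wd K8 (word false (σ false)) (pt true i) = pt true i from ((word_ok false _).2.2 i).2]
    exact ((word_ok true _).2.2 _).1

theorem pw_even {σ : Bool → Equiv.Perm (Fin 5)}
    (he : Equiv.Perm.sign (σ true) * Equiv.Perm.sign (σ false) = 1) : Wok K8 (pw σ) = true := by
  rw [wok_eq]
  simp only [wk, pw, Bool.and_eq_true, List.all_eq_true, List.all_append, beq_iff_eq, List.length_append]
  refine ⟨⟨fun x hx => ?_, fun x hx => ?_⟩, ?_⟩
  iterate 2
    have := List.all_eq_true.1 (word_ok _ _).1 x hx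
    simp only [Bool.and_eq_true, decide_eq_true_eq] at this
    exact ⟨this.1, decide_eq_true this.2⟩
  have h1 := (word_ok true (σ true)).2.1
  have h2 := (word_ok false (σ false)).2.1
  rcases Int.units_eq_one_or (Equiv.Perm.sign (σ true)) with e | e <;>
    rcases Int.units_eq_one_or (Equiv.Perm.sign (σ false)) with e' | e' <;> rw [e, e'] at he <;>
    simp [e, e'] at h1 h2 he <;> omega

/-- An element permuting the points of both solids. -/
structure Rel (h : Code K8 z Q cd) (c : G) (σ : Bool → Equiv.Perm (Fin 5)) : Prop where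
  comm : c * z = z * c
  act : ∀ s i, h.act c (pt s i) = pt s (σ s i)

namespace Rel

variable {h : Code K8 z Q cd} {c d : G} {σ τ : Bool → Equiv.Perm (Fin 5)}

theorem unique (hc : Rel h c σ) (hc' : Rel h c τ) : σ = τ :=
  funext fun s => Equiv.ext fun i => pt_inj ((hc.act s i).symm.trans (hc'.act s i))

theorem mul (hc : Rel h c σ) (hd : Rel h d τ) : Rel h (c * d) (σ * τ) :=
  ⟨comm_mul hc.comm hd.comm, fun s i => by
    rw [h.act_mul hc.comm hd.comm (show pt s i < 2 ^ K8.n from pt_lt s i), hd.act, hc.act]; rfl⟩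

theorem inv (hc : Rel h c σ) : Rel h c⁻¹ σ⁻¹ :=
  ⟨comm_inv hc.comm, fun s i => by
    have := hc.act s ((σ s)⁻¹ i)
    rw [show σ s ((σ s)⁻¹ i) = i from (σ s).apply_symm_apply i] at this
    rw [← this, h.act_inv_left hc.comm (show pt s _ < 2 ^ K8.n from pt_lt s _)]
    rfl⟩

theorem one : Rel h 1 1 := ⟨by simp, fun s i => h.act_one (show pt s i < 2 ^ K8.n from pt_lt s i)⟩

theorem pow (hc : Rel h c σ) (n : ℕ) : Rel h (c ^ n) (σ ^ n) := by
  induction n with
  | zero => rw [pow_zero, pow_zero]; exact one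
  | succ n ih => rw [pow_succ, pow_succ]; exact ih.mul hc

theorem act_eq (hc : Rel h c σ) {a : ℕ} (ha : a < 256) : h.act c a = wd K8 (pw σ) a := by
  have hcov := cover_ok
  simp only [List.all_eq_true, List.mem_range, List.contains_iff_mem] at hcov
  suffices ∀ v ∈ sp ((pp true).take 4 ++ (pp false).take 4), v < 256 ∧ h.act c v = wd K8 (pw σ) v from
    (this a (hcov a ha)).2
  intro v hv
  refine sp_induct (P := fun v => v < 256 ∧ h.act c v = wd K8 (pw σ) v) ?_ ?_ ?_ v hv
  · refine ⟨by norm_num, ?_⟩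
    have := h.act_xor hc.comm (Nat.two_pow_pos K8.n) (Nat.two_pow_pos K8.n)
    have e2 := lin_any h (pw_lt σ) 0 (by norm_num) 0 (by norm_num)
    simp only [Nat.xor_self] at this e2
    rw [this, e2]
  · intro b hb
    rcases List.mem_append.1 hb with hb | hb <;>
    · obtain ⟨i, rfl⟩ := mem_pp (List.mem_of_mem_take hb)
      exact ⟨pt_lt _ i, by rw [hc.act, pw_pt]⟩
  · rintro x y ⟨hx, ex⟩ ⟨hy, ey⟩
    exact ⟨xor_lt hx hy, by rw [h.act_xor hc.comm hx hy, lin_any h (pw_lt σ) x hx y hy, ex, ey]⟩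

theorem mem_Q (hc : Rel h c 1) : c ∈ Q := (h.mem_iff hc.comm).2 fun a ha => by
  rw [hc.act_eq ha, show pw 1 = [] by simp [pw, word, go]]; rfl

theorem of_mem {x : G} (hx : x ∈ Q) : Rel h x 1 := by
  have hz := h.ext.central x hx
  exact ⟨hz, fun s i => (h.mem_iff hz).1 hx _ (pt_lt s i)⟩

theorem act_spn (hc : Rel h c σ) {s : Bool} {v : ℕ} (hv : v ∈ spn s) : h.act c v ∈ spn s := by
  have hs : ∀ i, bq K8 (pt (!s) i) v = false := (bq_perp (spn_lt hv)).1 (by rwa [Bool.not_not])
  rw [← Bool.not_not s]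
  refine (bq_perp (s := !s) (h.act_lt hc.comm v)).2 fun i => ?_
  have := hs ((σ (!s))⁻¹ i)
  rwa [← h.bq_act hc.comm (pt_lt _ _) (spn_lt hv), hc.act,
    show σ (!s) ((σ (!s))⁻¹ i) = i from (σ (!s)).apply_symm_apply i] at this

end Rel

variable {h : Code K8 z Q cd}

/-- An even pair lifts. -/
theorem exists_lift_pair (h : Code K8 z Q cd) {σ : Bool → Equiv.Perm (Fin 5)}
    (he : Equiv.Perm.sign (σ true) * Equiv.Perm.sign (σ false) = 1) : ∃ c, Rel h c σ := by
  obtain ⟨c, hc, hca⟩ := h.exists_lift (pw_even he)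
  exact ⟨c, hc, fun s i => by rw [hca _ (pt_lt s i), pw_pt]⟩

/-- No reflection occurs. -/
theorem no_swap (h : Code K8 z Q cd)
    (hcard : Nat.card (Subgroup.centralizer ({z} : Set G)) = 42525 * (2 ^ 12 * Nat.card Q)) (hQ : Nat.card Q = 512)
    {d : G} : ¬ Rel h d (fun s => if s then Equiv.swap 0 1 else 1) := by
  intro hd
  set σ : Bool → Equiv.Perm (Fin 5) := fun s => if s then Equiv.swap 0 1 else 1 with hσ
  have hsq : d * d ∈ Q := by
    refine Rel.mem_Q (h := h) ?_
    have := hd.mul hd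
    rwa [show σ * σ = 1 from funext fun s => by cases s <;> simp [σ]] at this
  have hd8 : d ^ 8 = 1 := by
    rw [show d ^ 8 = (d * d * (d * d)) * (d * d * (d * d)) by simp only [pow_succ, pow_zero, one_mul, mul_assoc]]
    rcases h.ext.sq _ hsq with e | e <;> rw [e]
    · rw [one_mul]
    · exact h.ext.zz
  obtain ⟨H, hH, hact⟩ := exists_full h hcard
  have hT : IsPGroup 2 (Subgroup.zpowers d) := by
    intro ⟨x, hx⟩
    obtain ⟨k, rfl⟩ := Subgroup.mem_zpowers_iff.1 hx
    refine ⟨3, Subtype.ext ?_⟩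
    show (d ^ k) ^ (2 ^ 3) = 1
    rw [← zpow_natCast, ← zpow_mul, mul_comm, zpow_mul, zpow_natCast, show 2 ^ 3 = 8 from rfl, hd8, one_zpow]
  obtain ⟨c, hc, hcT⟩ := conj_le hH hT (by
    rw [Subgroup.zpowers_le]; exact Subgroup.mem_centralizer_singleton_iff.2 hd.comm)
  obtain ⟨w, hw, l, hl, hx⟩ := hact _ (hcT d (Subgroup.mem_zpowers d))
  set τ := fun a => tE w (wd K8 (lw l) a)
  set u := pt true 0 ^^^ pt true 1
  have hmove : ∀ a < 256, h.act d a ^^^ a = 0 ∨ h.act d a ^^^ a = u := by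
    have hck : ((List.range 256).all fun a =>
        [0, pt true 0 ^^^ pt true 1].contains (wd K8 (pw (fun s => if s then Equiv.swap 0 1 else 1)) a ^^^ a)) = true := by
      decide +kernel
    simp only [List.all_eq_true, List.mem_range, List.contains_iff_mem, List.mem_cons, List.not_mem_nil, or_false] at hck
    intro a ha
    rw [hd.act_eq ha]
    exact hck a ha
  have hmove' : ∀ a < 256, τ a ^^^ a = 0 ∨ τ a ^^^ a = h.act c u := by
    intro a ha
    have hb := h.act_lt (comm_inv hc) a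
    set b := h.act c⁻¹ a
    have ea : h.act c b = a := h.act_inv_right hc ha
    have hτ : τ a = h.act c (h.act d b) := by
      rw [← hx.2 a ha, h.act_mul (comm_mul hc hd.comm) (comm_inv hc) ha, h.act_mul hc hd.comm hb]
    have e0 : h.act c 0 = 0 := by
      have := h.act_xor hc (Nat.two_pow_pos K8.n) (Nat.two_pow_pos K8.n)
      simpa using this
    rw [hτ, show h.act c (h.act d b) ^^^ a = h.act c (h.act d b ^^^ b) by
      rw [h.act_xor hc (h.act_lt hd.comm b) hb, ea]]
    rcases hmove b hb with e | e <;> rw [e]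
    · exact Or.inl e0
    · exact Or.inr rfl
  have hr := rank_one_ok
  simp only [List.all_eq_true, Bool.or_eq_true, List.any_eq_true, Bool.and_eq_true, bne_iff_ne, beq_iff_eq,
    List.mem_range] at hr
  rcases hr w hw l hl with e | ⟨i, hi, j, hj, ⟨h1, h2⟩, h3⟩
  · have hlin : Lin τ := fun a ha b hb => by
      show tE w (wd K8 (lw l) (a ^^^ b)) = tE w (wd K8 (lw l) a) ^^^ tE w (wd K8 (lw l) b)
      rw [(lin_lw h hl).1 a ha b hb, lin_tE h (rs_lt hw) _ ((lin_lw h hl).2 a ha) _ ((lin_lw h hl).2 b hb)]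
    have hQc : c * d * c⁻¹ ∈ Q := (h.mem_iff hx.1).2 fun a ha => by
      rw [hx.2 a ha]; exact lin_ext hlin lin_id e ha
    have := h.ext.norm c⁻¹ (comm_inv hc) _ hQc
    rw [show c⁻¹ * (c * d * c⁻¹) * c⁻¹⁻¹ = d by group] at this
    have e' := congrFun (hd.unique (Rel.of_mem this)) true
    exact absurd e' (by decide +kernel)
  · have hp : ∀ k < 8, 2 ^ k < 256 := fun k hk =>
      lt_of_lt_of_eq (Nat.pow_lt_pow_right (by norm_num) hk) (by norm_num)
    rcases hmove' _ (hp i hi) with k1 | k1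
    · exact h1 k1
    rcases hmove' _ (hp j hj) with k2 | k2
    · exact h2 k2
    exact h3 (k1.trans k2.symm)

/-- The pair of an element is even. -/
theorem Rel.even {c : G} {σ : Bool → Equiv.Perm (Fin 5)} (hc : Rel h c σ)
    (hcard : Nat.card (Subgroup.centralizer ({z} : Set G)) = 42525 * (2 ^ 12 * Nat.card Q)) (hQ : Nat.card Q = 512) :
    Equiv.Perm.sign (σ true) * Equiv.Perm.sign (σ false) = 1 := by
  by_contra hne
  have hm : Equiv.Perm.sign (σ true) * Equiv.Perm.sign (σ false) = -1 :=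
    (Int.units_eq_one_or _).resolve_left hne
  set τ : Bool → Equiv.Perm (Fin 5) := fun s => if s then Equiv.swap 0 1 * (σ true)⁻¹ else (σ false)⁻¹
  obtain ⟨e, he⟩ := exists_lift_pair h (σ := τ) (by
    simp only [τ, if_true, Bool.false_eq_true, if_false, map_mul, map_inv, Equiv.Perm.sign_swap (show (0 : Fin 5) ≠ 1 by decide),
      mul_assoc, ← mul_inv]
    rw [hm]; decide)
  refine no_swap h hcard hQ (d := e * c) ?_
  have := he.mul hc
  rwa [show τ * σ = fun s => if s then Equiv.swap 0 1 else 1 from funext fun s => by cases s <;> simp [τ, mul_assoc]] at this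

end Cfsg.Agent.Invol.Co1.Five
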