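import Cfsg.Agent.Lib.Invol.Co1.Five.Rel

/-!
# The centralizers of the two solids
-/

set_option autoImplicit false
set_option maxRecDepth 100000
set_option linter.unusedSectionVars false

namespace Cfsg.Agent.Invol.Co1.Five

open Cfsg.Agent.Classical.BinCoc Cfsg.Agent.Invol.Big Cfsg.Agent.Invol.Big.Code
open scoped commutatorElement

/-- A standard cycle. -/
def cyc : Equiv.Perm (Fin 5) := finRotate 5

theorem cyc_ok : cyc ^ 5 = 1 ∧ cyc ≠ 1 ∧ cyc ^ 16 = cyc := by decide +kernel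

theorem spn_data : ∀ s : Bool, (spn s).length = 16 ∧ (spn s).Nodup ∧ (spn s).contains 0 = true ∧
    ((spn s).all fun u => (spn s).all fun v => (spn s).contains (u ^^^ v)) = true ∧
    ((spn s).any fun u => (spn s).any fun v => bq K8 u v) = true := by decide +kernel

variable {G : Type*} [Group G] [Finite G] {z : G} {Q : Subgroup G} {cd : G → ℕ}

theorem spn_xor {s : Bool} {u v : ℕ} (hu : u ∈ spn s) (hv : v ∈ spn s) : u ^^^ v ∈ spn s := by
  have h := (spn_data s).2.2.2.1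
  simp only [List.all_eq_true, List.contains_iff_mem] at h
  exact h u hu v hv

theorem zero_spn (s : Bool) : 0 ∈ spn s := by simpa using (spn_data s).2.2.1

theorem pt_spn (s : Bool) (i : Fin 5) : pt s i ∈ spn s := by simpa using ((pp_ok s).2.2 i).2.2

theorem spn_inter {s : Bool} {v : ℕ} (h1 : v ∈ spn s) (h2 : v ∈ spn (!s)) : v = 0 := by
  have h' := List.all_eq_true.1 inter_ok v (List.mem_range.2 (spn_lt h1))
  cases s <;> simp_all [List.contains_iff_mem]

/-- The members of `Q` in a solid. -/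
def QS (h : Code K8 z Q cd) (s : Bool) : Subgroup G where
  carrier := {x | x ∈ Q ∧ cd x ∈ spn s}
  mul_mem' := fun {a b} ha hb => ⟨mul_mem ha.1 hb.1, by rw [h.mul a ha.1 b hb.1]; exact spn_xor ha.2 hb.2⟩
  one_mem' := ⟨one_mem _, by rw [h.cd_one]; exact zero_spn s⟩
  inv_mem' := fun {a} ha => ⟨inv_mem ha.1, by rw [h.cd_inv ha.1]; exact ha.2⟩

theorem z_QS (h : Code K8 z Q cd) (s : Bool) : z ∈ QS h s := ⟨h.ext.mem, by rw [h.cd_z]; exact zero_spn s⟩

/-- The centralizer of a solid. -/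
def Y (h : Code K8 z Q cd) (s : Bool) : Subgroup G :=
  Subgroup.centralizer ({z} : Set G) ⊓ Subgroup.centralizer (QS h s : Set G)

theorem mem_Y {h : Code K8 z Q cd} {s : Bool} {c : G} :
    c ∈ Y h s ↔ c * z = z * c ∧ ∀ x ∈ Q, cd x ∈ spn s → x * c = c * x :=
  ⟨fun hc => ⟨Subgroup.mem_centralizer_singleton_iff.1 hc.1, fun x hx hxs =>
    Subgroup.mem_centralizer_iff.1 hc.2 x ⟨hx, hxs⟩⟩,
  fun hc => ⟨Subgroup.mem_centralizer_singleton_iff.2 hc.1,
    Subgroup.mem_centralizer_iff.2 fun x hx => hc.2 x hx.1 hx.2⟩⟩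

theorem QS_le_Y (h : Code K8 z Q cd) (s : Bool) : QS h (!s) ≤ Y h s := fun x hx =>
  mem_Y.2 ⟨h.ext.central x hx.1, fun y hy hys => (h.commute_iff hy hx.1).2 (by
    have := (bq_perp (spn_lt hx.2)).1 hx.2
    have key : ∀ v ∈ spn s, v < 256 ∧ bq K8 v (cd x) = false := by
      intro v hv
      refine sp_induct (P := fun v => v < 256 ∧ bq K8 v (cd x) = false) ⟨by norm_num, by
        unfold bq; rw [Nat.zero_xor, show K8.q 0 = false by decide +kernel]; cases K8.q (cd x) <;> rfl⟩ ?_ ?_ v hv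
      · intro b hb
        obtain ⟨i, rfl⟩ := mem_pp (List.mem_of_mem_take hb)
        exact ⟨pt_lt s i, this i⟩
      · rintro a b ⟨ha, ea⟩ ⟨hb, eb⟩
        exact ⟨xor_lt ha hb, by rw [bq_add h ha hb (h.lt x hx.1), ea, eb]; rfl⟩
    exact (key _ hys).2)⟩

theorem card_QS (h : Code K8 z Q cd) (s : Bool) : Nat.card (QS h s) = 32 := by
  classical
  obtain ⟨hlen, hnd, -⟩ := spn_data s
  let φ : {v // v ∈ (spn s).toFinset} × Fin 2 → QS h s := fun t =>
    ⟨h.rep t.1.1 * z ^ t.2.1, ⟨mul_mem (h.rep_mem _) (pow_mem h.ext.mem _), by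
      rw [h.mul _ (h.rep_mem _) _ (pow_mem h.ext.mem _), h.cd_zpow, Nat.xor_zero,
        h.cd_rep (show t.1.1 < 2 ^ K8.n from spn_lt (List.mem_toFinset.1 t.1.2))]
      exact List.mem_toFinset.1 t.1.2⟩⟩
  have hφ : Function.Bijective φ := by
    constructor
    · intro a b e
      have e' : h.rep a.1.1 * z ^ a.2.1 = h.rep b.1.1 * z ^ b.2.1 := congrArg Subtype.val e
      have hc := congrArg cd e'
      rw [h.mul _ (h.rep_mem _) _ (pow_mem h.ext.mem _), h.mul _ (h.rep_mem _) _ (pow_mem h.ext.mem _), h.cd_zpow,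
        h.cd_zpow, Nat.xor_zero, Nat.xor_zero, h.cd_rep (show a.1.1 < 2 ^ K8.n from spn_lt (List.mem_toFinset.1 a.1.2)),
        h.cd_rep (show b.1.1 < 2 ^ K8.n from spn_lt (List.mem_toFinset.1 b.1.2))] at hc
      rw [hc] at e'
      exact Prod.ext (Subtype.ext hc) (Fin.ext (h.pow_inj (by omega) (by omega) (mul_left_cancel e')))
    · rintro ⟨x, hx, hxs⟩
      rcases (h.cd_eq_iff (h.rep_mem (cd x)) hx).1 (h.cd_rep (h.lt x hx)) with e | e
      · exact ⟨(⟨cd x, List.mem_toFinset.2 hxs⟩, 0), Subtype.ext (by simp [φ, ← e])⟩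
      · exact ⟨(⟨cd x, List.mem_toFinset.2 hxs⟩, 1), Subtype.ext (by simp [φ, ← e])⟩
  rw [← Nat.card_eq_of_bijective φ hφ, Nat.card_prod, Nat.card_fin, Nat.card_eq_fintype_card, Fintype.card_coe,
    List.toFinset_card_of_nodup hnd, hlen]

variable {h : Code K8 z Q cd}

/-- Preserving the points of one solid. -/
theorem exists_rel {c : G} (hc : c * z = z * c) (s : Bool) (hm : ∀ i, h.act c (pt s i) ∈ spn s) :
    ∃ σ, Rel h c σ := by
  classical
  have hne : ∀ t i, h.act c (pt t i) ≠ 0 := fun t i e => by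
    have e0 : h.act c⁻¹ 0 = 0 := by
      have := h.act_xor (comm_inv hc) (Nat.two_pow_pos K8.n) (Nat.two_pow_pos K8.n)
      simpa using this
    have := h.act_inv_left hc (show pt t i < 2 ^ K8.n from pt_lt t i)
    rw [e, e0] at this
    exact absurd this.symm ((show ∀ t i, pt t i ≠ 0 by decide +kernel) t i)
  have step : ∀ t, (∀ i, h.act c (pt t i) ∈ spn t) → ∀ i, ∃ j, h.act c (pt t i) = pt t j := by
    intro t ht i
    have hs := sing_ok t
    simp only [List.all_eq_true, Bool.and_eq_true, Bool.or_eq_true, beq_iff_eq, List.contains_iff_mem] at hs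
    have hq : K8.q (h.act c (pt t i)) = false := by
      rw [h.act_q hc (show pt t i < 2 ^ K8.n from pt_lt t i)]; exact ((pp_ok t).2.2 i).2.1
    rcases (hs _ (ht i)).2 with (e | e) | e
    · exact absurd e (hne t i)
    · rw [hq] at e; exact absurd e (by simp)
    · exact (mem_pp e).imp fun j hj => hj.symm
  have h1 := step s hm
  choose f hf using h1
  have hfs : Function.Surjective f := Finite.injective_iff_surjective.1 fun i j e => pt_inj (s := s) (by
    have := congrArg (h.act c⁻¹) ((hf i).trans ((congrArg (pt s) e).trans (hf j).symm))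
    rwa [h.act_inv_left hc (show pt s i < 2 ^ K8.n from pt_lt s i),
      h.act_inv_left hc (show pt s j < 2 ^ K8.n from pt_lt s j)] at this)
  have h2 : ∀ i, h.act c (pt (!s) i) ∈ spn (!s) := fun i => (bq_perp (h.act_lt hc _)).2 fun j => by
    obtain ⟨k, rfl⟩ := hfs j
    rw [← hf k, h.bq_act hc (show pt s k < 2 ^ K8.n from pt_lt s k) (show pt (!s) i < 2 ^ K8.n from pt_lt _ i)]
    exact (bq_perp (pt_lt _ i)).1 (pt_spn _ i) k
  have h1' := step (!s) h2
  choose f' hf' using h1'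
  have hall : ∀ t i, ∃ j, h.act c (pt t i) = pt t j := by
    intro t i
    by_cases e : t = s
    · subst e; exact ⟨_, hf i⟩
    · obtain rfl : t = !s := by cases t <;> cases s <;> simp_all
      exact ⟨_, hf' i⟩
  choose g hg using hall
  have hgb : ∀ t, Function.Bijective (g t) := fun t => Finite.injective_iff_bijective.1 fun i j e => pt_inj (s := t) (by
    have := congrArg (h.act c⁻¹) ((hg t i).trans ((congrArg (pt t) e).trans (hg t j).symm))
    rwa [h.act_inv_left hc (show pt t i < 2 ^ K8.n from pt_lt t i),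
      h.act_inv_left hc (show pt t j < 2 ^ K8.n from pt_lt t j)] at this)
  exact ⟨fun t => Equiv.ofBijective _ (hgb t), hc, fun t i => hg t i⟩

theorem Rel.fix_spn {c : G} {σ : Bool → Equiv.Perm (Fin 5)} (hc : Rel h c σ) {s : Bool} (hs : σ s = 1) {v : ℕ}
    (hv : v ∈ spn s) : h.act c v = v := by
  suffices v < 256 ∧ h.act c v = v from this.2
  refine sp_induct (P := fun v => v < 256 ∧ h.act c v = v) ⟨by norm_num, ?_⟩ ?_ ?_ v hv
  · have := h.act_xor hc.comm (Nat.two_pow_pos K8.n) (Nat.two_pow_pos K8.n)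
    simpa using this
  · intro b hb
    obtain ⟨i, rfl⟩ := mem_pp (List.mem_of_mem_take hb)
    exact ⟨pt_lt s i, by rw [hc.act, hs]; rfl⟩
  · rintro a b ⟨ha, ea⟩ ⟨hb, eb⟩
    exact ⟨xor_lt ha hb, by rw [h.act_xor hc.comm ha hb, ea, eb]⟩

theorem Y_rel {s : Bool} {c : G} (hc : c ∈ Y h s) : ∃ σ, Rel h c σ ∧ σ s = 1 := by
  obtain ⟨hz, hcom⟩ := mem_Y.1 hc
  have hfix : ∀ i, h.act c (pt s i) = pt s i := fun i => by
    have hp : pt s i < 2 ^ K8.n := pt_lt s i
    show cd (c * h.rep _ * c⁻¹) = _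
    rw [← hcom _ (h.rep_mem _) (by rw [h.cd_rep hp]; exact pt_spn s i), mul_inv_cancel_right, h.cd_rep hp]
  obtain ⟨σ, hσ⟩ := exists_rel hz s fun i => by rw [hfix i]; exact pt_spn s i
  exact ⟨σ, hσ, Equiv.ext fun i => pt_inj ((hσ.act s i).symm.trans (hfix i))⟩

/-- A five-element of the centralizer fixes what its action fixes. -/
theorem fix_commute {b : G} (hb : b * z = z * b) (h5 : b ^ 5 = 1) {x : G} (hx : x ∈ Q)
    (e : h.act b (cd x) = cd x) : b * x = x * b := by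
  rw [h.act_cd hb hx] at e
  rcases (h.cd_eq_iff hx (h.ext.norm b hb x hx)).1 e.symm with k | k
  · exact mul_inv_eq_iff_eq_mul.1 k
  exfalso
  have hkey : ∀ n : ℕ, b ^ n * x * (b ^ n)⁻¹ = x * z ^ n := by
    intro n
    induction n with
    | zero => simp
    | succ n ih =>
      have hbz : b * z ^ n * b⁻¹ = z ^ n := conj_zpow' hb n
      rw [pow_succ' b, show b * b ^ n * x * (b * b ^ n)⁻¹ = b * (b ^ n * x * (b ^ n)⁻¹) * b⁻¹ by group, ih,
        show b * (x * z ^ n) * b⁻¹ = (b * x * b⁻¹) * (b * z ^ n * b⁻¹) by group, hbz, k, mul_assoc, ← pow_succ']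
  have := hkey 5
  rw [h5, one_mul, inv_one, mul_one, left_eq_mul, show (5 : ℕ) = 2 * 2 + 1 from rfl, pow_succ, pow_mul,
    show z ^ 2 = 1 by rw [pow_two, h.ext.zz], one_pow, one_mul] at this
  exact h.ne this

/-- Five-elements moving one solid. -/
theorem exists_five (h : Code K8 z Q cd) (s : Bool) {γ : Equiv.Perm (Fin 5)} (hγ : γ ^ 5 = 1) (hne : γ ≠ 1) :
    ∃ b σ, Rel h b σ ∧ σ s = 1 ∧ σ (!s) = γ ∧ b ^ 5 = 1 ∧ b ≠ 1 := by
  set σ : Bool → Equiv.Perm (Fin 5) := fun t => if t = s then 1 else γ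
  have hsgn := (five_ok s γ hγ hne).1
  obtain ⟨c, hc⟩ := exists_lift_pair h (σ := σ) (by simp only [σ]; cases s <;> simp [hsgn])
  have h16 := hc.pow 16
  have hσ5 : σ ^ 5 = 1 := funext fun t => by simp only [Pi.pow_apply, σ]; split_ifs <;> simp [hγ]
  have hσ16 : σ ^ 16 = σ := by
    rw [show (16 : ℕ) = 5 * 3 + 1 from rfl, pow_succ, pow_mul, hσ5, one_pow, one_mul]
  rw [hσ16] at h16
  have hq : c ^ 5 ∈ Q := Rel.mem_Q (h := h) (by have := hc.pow 5; rwa [hσ5] at this)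
  refine ⟨c ^ 16, σ, h16, if_pos rfl, if_neg (by cases s <;> simp), ?_, fun e => hne ?_⟩
  · rw [← pow_mul, show 16 * 5 = 5 * 2 * 8 from rfl, pow_mul, pow_mul c, pow_two]
    rcases h.ext.sq _ hq with k | k <;> rw [k]
    · simp
    · rw [show (8 : ℕ) = 2 * 4 from rfl, pow_mul, pow_two, h.ext.zz, one_pow]
  · rw [e] at h16
    have := congrFun (h16.unique Rel.one) (!s)
    simp only [σ, if_neg (show ¬ (!s) = s by cases s <;> simp)] at this
    exact this

/-- A member commuting with the five-element commutes with the moved solid. -/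
theorem mem_Y_of_comm {b c : G} {σ τ : Bool → Equiv.Perm (Fin 5)} {s : Bool} (hb : Rel h b τ) (hτ : τ (!s) ≠ 1)
    (h5 : b ^ 5 = 1) (hc : Rel h c σ) (hσ : σ (!s) = 1) (hbc : b * c = c * b) (hτs : τ s = 1) : c ∈ Y h (!s) := by
  refine mem_Y.2 ⟨hc.comm, fun x hx hxs => ?_⟩
  have hγ : τ (!s) ^ 5 = 1 := by
    have := (Rel.pow hb 5)
    rw [h5] at this
    have := congrFun (this.unique Rel.one) (!s)
    simpa using this
  obtain ⟨-, -, hsurj⟩ := five_ok s _ hγ hτ
  simp only [List.all_eq_true, List.any_eq_true, beq_iff_eq] at hsurj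
  obtain ⟨u, hu, huv⟩ := hsurj _ hxs
  have hu' : u < 2 ^ K8.n := spn_lt hu
  have hbu : h.act b u = wd K8 (word (!s) (τ (!s))) u := by
    rw [hb.act_eq hu']
    cases s <;> simp only [Bool.not_false, Bool.not_true] at hτs ⊢ <;>
      simp [pw, hτs, show word true (1 : Equiv.Perm (Fin 5)) = [] by decide +kernel,
        show word false (1 : Equiv.Perm (Fin 5)) = [] by decide +kernel]
  set y := h.rep u
  have hy := h.rep_mem u
  have hcy : cd y = u := h.cd_rep hu'
  obtain ⟨k, hk, hk1⟩ : ∃ k : G, c * y * c⁻¹ = y * k ∧ (k = 1 ∨ k = z) := by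
    have e : cd (c * y * c⁻¹) = cd y := by
      rw [← h.act_cd hc.comm hy, hcy, hc.fix_spn hσ hu]
    rcases (h.cd_eq_iff hy (h.ext.norm c hc.comm y hy)).1 e.symm with k | k
    · exact ⟨1, by rw [k, mul_one], Or.inl rfl⟩
    · exact ⟨z, k, Or.inr rfl⟩
  have hkb : b * k * b⁻¹ = k := by
    rcases hk1 with rfl | rfl
    · simp
    · rw [hb.comm, mul_inv_cancel_right]
  have hky : k * y⁻¹ = y⁻¹ * k := by
    rcases hk1 with rfl | rfl
    · simp
    · exact (h.ext.central _ (inv_mem hy)).symm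
  set w := b * y * b⁻¹ * y⁻¹
  have hw : w ∈ Q := mul_mem (h.ext.norm b hb.comm y hy) (inv_mem hy)
  have hcw : c * w * c⁻¹ = w := by
    calc c * w * c⁻¹ = (c * b) * y * (c * b)⁻¹ * (c * y * c⁻¹)⁻¹ := by simp only [w]; group
      _ = b * (c * y * c⁻¹) * b⁻¹ * (c * y * c⁻¹)⁻¹ := by rw [← hbc]; group
      _ = (b * y * b⁻¹) * (b * k * b⁻¹) * (k⁻¹ * y⁻¹) := by rw [hk]; group
      _ = _ := by rw [hkb]; simp only [w]; group
  have hwc : cd w = cd x := by
    rw [h.mul _ (h.ext.norm b hb.comm y hy) _ (inv_mem hy), h.cd_inv hy, ← h.act_cd hb.comm hy, hcy, hbu, Nat.xor_comm, huv]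
  have hwx : Commute c w := mul_inv_eq_iff_eq_mul.1 hcw
  rcases (h.cd_eq_iff hw hx).1 hwc with e | e <;> rw [e]
  · exact hwx.eq.symm
  · exact (hwx.mul_right (show Commute c z from hc.comm)).eq.symm

/-- Even permutations of one solid lift to members commuting with a five-element. -/
theorem exists_Y_lift (h : Code K8 z Q cd) (hQ : Nat.card Q = 512) (s : Bool) {α : Equiv.Perm (Fin 5)}
    (hα : Equiv.Perm.sign α = 1) : ∃ c σ, c ∈ Y h (!s) ∧ Rel h c σ ∧ σ s = α := by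
  classical
  obtain ⟨b, τ, hb, hτs, hτ, h5, -⟩ := exists_five h s cyc_ok.1 cyc_ok.2.1
  set σ : Bool → Equiv.Perm (Fin 5) := fun t => if t = s then α else 1
  obtain ⟨c, hc⟩ := exists_lift_pair h (σ := σ) (by simp only [σ]; cases s <;> simp [hα])
  have hk : c⁻¹ * b * c * b⁻¹ ∈ Q := Rel.mem_Q (h := h) (by
    have := ((hc.inv.mul hb).mul hc).mul hb.inv
    rwa [show σ⁻¹ * τ * σ * τ⁻¹ = 1 from funext fun t => by
      simp only [Pi.mul_apply, Pi.inv_apply, Pi.one_apply, σ]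
      by_cases e : t = s
      · subst e; simp [hτs]
      · rw [if_neg e]; simp] at this)
  let φ : Q → Q := fun x => ⟨c⁻¹ * b * c * x.1 * b⁻¹, by
    rw [show c⁻¹ * b * c * x.1 * b⁻¹ = (c⁻¹ * b * c * b⁻¹) * (b * x.1 * b⁻¹) by group]
    exact mul_mem hk (h.ext.norm b hb.comm _ x.2)⟩
  have hit : ∀ (n : ℕ) (x : Q), (φ^[n] x).1 = c⁻¹ * b ^ n * c * x.1 * (b ^ n)⁻¹ := by
    intro n
    induction n with
    | zero => intro x; simp
    | succ n ih =>
      intro x
      rw [Function.iterate_succ_apply', pow_succ']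
      show c⁻¹ * b * c * (φ^[n] x).1 * b⁻¹ = _
      rw [ih x]; group
  have h5x : ∀ x, φ^[5] x = x := fun x => Subtype.ext (by rw [hit 5 x, h5]; group)
  let e : Equiv.Perm Q := ⟨φ, φ^[4], fun x => h5x x, fun x => by
    rw [← Function.iterate_succ_apply' φ 4 x]; exact h5x x⟩
  haveI : Fintype Q := Fintype.ofFinite _
  haveI : Fact (Nat.Prime 5) := ⟨by norm_num⟩
  obtain ⟨x, hx⟩ := Equiv.Perm.exists_fixed_point_of_prime (p := 5) (n := 1) (σ := e)
    (by rw [← Nat.card_eq_fintype_card, hQ]; norm_num)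
    (Equiv.ext fun x => by rw [pow_one, Equiv.Perm.coe_pow]; exact h5x x)
  have hbc : b * (c * x.1) = c * x.1 * b := by
    have e1 : c⁻¹ * b * c * x.1 * b⁻¹ = x.1 := congrArg Subtype.val hx
    calc b * (c * x.1) = c * (c⁻¹ * b * c * x.1 * b⁻¹) * b := by group
      _ = _ := by rw [e1]
  have hcx : Rel h (c * x.1) σ := by simpa using hc.mul (Rel.of_mem x.2)
  exact ⟨_, σ, mem_Y_of_comm hb (by rw [hτ]; exact cyc_ok.2.1) h5 hcx (if_neg (by cases s <;> simp)) hbc hτs,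
    hcx, if_pos rfl⟩

/-- The map to the alternating group. -/
theorem exists_alt (h : Code K8 z Q cd) (hQ : Nat.card Q = 512)
    (hcard : Nat.card (Subgroup.centralizer ({z} : Set G)) = 42525 * (2 ^ 12 * Nat.card Q)) (s : Bool) :
    ∃ π : ↥(Y h s) →* alternatingGroup (Fin 5), Function.Surjective π ∧ π.ker = (QS h (!s)).subgroupOf (Y h s) ∧
      ∀ (c : ↥(Y h s)) σ, Rel h c σ → (π c : Equiv.Perm (Fin 5)) = σ (!s) := by
  classical
  choose σ hσ hσs using fun c : ↥(Y h s) => Y_rel c.2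
  have hev : ∀ c, σ c (!s) ∈ alternatingGroup (Fin 5) := fun c => by
    have := (hσ c).even hcard hQ
    have h1 := hσs c
    rw [Equiv.Perm.mem_alternatingGroup]
    cases s <;> simpa [h1] using this
  let π : ↥(Y h s) →* alternatingGroup (Fin 5) := MonoidHom.mk' (fun c => ⟨_, hev c⟩) fun a b =>
    Subtype.ext (congrFun ((hσ (a * b)).unique ((hσ a).mul (hσ b))) (!s))
  refine ⟨π, fun α => ?_, Subgroup.ext fun c => ?_, fun c τ hc => congrFun ((hσ c).unique hc) (!s)⟩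
  · obtain ⟨c, τ, hcY, hc, hτ⟩ := exists_Y_lift h hQ (!s) (Equiv.Perm.mem_alternatingGroup.1 α.2)
    rw [Bool.not_not] at hcY
    exact ⟨⟨c, hcY⟩, Subtype.ext ((congrFun ((hσ ⟨c, hcY⟩).unique hc) (!s)).trans hτ)⟩
  · rw [MonoidHom.mem_ker, Subgroup.mem_subgroupOf]
    constructor
    · intro e
      have e' : σ c (!s) = 1 := congrArg Subtype.val e
      have h1 := hσ c
      rw [show σ c = 1 from funext fun t => by
        by_cases k : t = s
        · subst k; exact hσs c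
        · obtain rfl : t = !s := by cases t <;> cases s <;> simp_all
          exact e'] at h1
      refine ⟨h1.mem_Q, (bq_perp (h.lt _ h1.mem_Q)).2 fun i => ?_⟩
      have hp : pt s i < 2 ^ K8.n := pt_lt s i
      have := (h.commute_iff (h.rep_mem _) h1.mem_Q).1
        ((mem_Y.1 c.2).2 _ (h.rep_mem _) (by rw [h.cd_rep hp]; exact pt_spn s i))
      rwa [h.cd_rep hp] at this
    · intro hc
      exact Subtype.ext (congrFun ((hσ c).unique (Rel.of_mem hc.1)) (!s))

theorem card_Y (h : Code K8 z Q cd) (hQ : Nat.card Q = 512)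
    (hcard : Nat.card (Subgroup.centralizer ({z} : Set G)) = 42525 * (2 ^ 12 * Nat.card Q)) (s : Bool) :
    Nat.card (Y h s) = 1920 := by
  obtain ⟨π, hs, hk, -⟩ := exists_alt h hQ hcard s
  rw [Subgroup.card_eq_card_quotient_mul_card_subgroup π.ker,
    Nat.card_congr (QuotientGroup.quotientKerEquivOfSurjective π hs).toEquiv, hk,
    Nat.card_congr (Subgroup.subgroupOfEquivOfLe (QS_le_Y h s)).toEquiv, card_QS, nat_card_alternatingGroup,
    Nat.card_fin]
  rfl

/-- The centralizer of a solid is perfect. -/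
theorem perfect_Y (h : Code K8 z Q cd) (hQ : Nat.card Q = 512)
    (hcard : Nat.card (Subgroup.centralizer ({z} : Set G)) = 42525 * (2 ^ 12 * Nat.card Q)) (s : Bool) :
    ⁅Y h s, Y h s⁆ = Y h s := by
  refine le_antisymm (Subgroup.commutator_le.2 fun a ha b hb =>
    mul_mem (mul_mem (mul_mem ha hb) (inv_mem ha)) (inv_mem hb)) ?_
  set D := ⁅Y h s, Y h s⁆ with hD
  obtain ⟨b, τ, hb, hτs, hτ, h5, -⟩ := exists_five h s cyc_ok.1 cyc_ok.2.1
  have hbY : b ∈ Y h s := mem_Y.2 ⟨hb.comm, fun x hx hxs => (fix_commute hb.comm h5 hx (hb.fix_spn hτs hxs)).symm⟩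
  obtain ⟨-, -, hsurj⟩ := five_ok s cyc cyc_ok.1 cyc_ok.2.1
  simp only [List.all_eq_true, List.any_eq_true, beq_iff_eq] at hsurj
  have hcode : ∀ v ∈ spn (!s), ∃ x ∈ D, x ∈ Q ∧ cd x = v := by
    intro v hv
    obtain ⟨u, hu, huv⟩ := hsurj v hv
    have hu' : u < 2 ^ K8.n := spn_lt hu
    have hyQ := h.rep_mem u
    have hyY : h.rep u ∈ Y h s := QS_le_Y h s ⟨hyQ, by rw [h.cd_rep hu']; exact hu⟩
    refine ⟨⁅b, h.rep u⁆, Subgroup.commutator_mem_commutator hbY hyY,
      mul_mem (h.ext.norm b hb.comm _ hyQ) (inv_mem hyQ), ?_⟩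
    rw [commutatorElement_def, h.mul _ (h.ext.norm b hb.comm _ hyQ) _ (inv_mem hyQ), h.cd_inv hyQ,
      ← h.act_cd hb.comm hyQ, h.cd_rep hu', hb.act_eq hu', Nat.xor_comm]
    cases s <;> simp only [Bool.not_false, Bool.not_true] at hτs hτ huv ⊢ <;>
      simp [pw, hτs, hτ, huv, show word true (1 : Equiv.Perm (Fin 5)) = [] by decide +kernel,
        show word false (1 : Equiv.Perm (Fin 5)) = [] by decide +kernel]
  have hz : z ∈ D := by
    have hp := (spn_data (!s)).2.2.2.2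
    simp only [List.any_eq_true] at hp
    obtain ⟨u, hu, v, hv, huv⟩ := hp
    obtain ⟨x, hxD, hx, hxc⟩ := hcode u hu
    obtain ⟨y, hyD, hy, hyc⟩ := hcode v hv
    have e := h.conj_bq hx hy
    rw [hxc, hyc, bn, huv, if_pos rfl, pow_one] at e
    have : y⁻¹ * (x * y * x⁻¹) ∈ D := mul_mem (inv_mem hyD) (mul_mem (mul_mem hxD hyD) (inv_mem hxD))
    rwa [e, inv_mul_cancel_left] at this
  intro c hc
  obtain ⟨π, hπ, hk, -⟩ := exists_alt h hQ hcard s
  have hmap : Subgroup.map π (D.subgroupOf (Y h s)) = ⊤ := by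
    have hcom : ⁅(⊤ : Subgroup (alternatingGroup (Fin 5))), (⊤ : Subgroup (alternatingGroup (Fin 5)))⁆ = ⊤ :=
      commutator_alternatingGroup_eq_top (by simp)
    refine top_le_iff.1 (hcom ▸ Subgroup.commutator_le.2 fun a _ a' _ => ?_)
    obtain ⟨u, rfl⟩ := hπ a
    obtain ⟨u', rfl⟩ := hπ a'
    exact ⟨⁅u, u'⁆, Subgroup.commutator_mem_commutator u.2 u'.2, map_commutatorElement π u u'⟩
  obtain ⟨d, hd, hde⟩ : π ⟨c, hc⟩ ∈ Subgroup.map π (D.subgroupOf (Y h s)) := hmap ▸ Subgroup.mem_top _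
  have hk' : d⁻¹ * ⟨c, hc⟩ ∈ π.ker := by rw [MonoidHom.mem_ker, map_mul, map_inv, hde, inv_mul_cancel]
  rw [hk, Subgroup.mem_subgroupOf] at hk'
  obtain ⟨q, hq, hqQ, hqc⟩ := hcode _ hk'.2
  have hdc : (d : G)⁻¹ * c ∈ D := by
    rcases (h.cd_eq_iff hqQ hk'.1).1 hqc with e | e
    · rw [show (d : G)⁻¹ * c = _ from e]; exact hq
    · rw [show (d : G)⁻¹ * c = _ from e]; exact mul_mem hq hz
  have := mul_mem (show (d : G) ∈ D from hd) hdc
  rwa [mul_inv_cancel_left] at this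

/-- The two centralizers commute elementwise. -/
theorem Y_commute (h : Code K8 z Q cd) (hQ : Nat.card Q = 512)
    (hcard : Nat.card (Subgroup.centralizer ({z} : Set G)) = 42525 * (2 ^ 12 * Nat.card Q)) {s : Bool} {x y : G}
    (hx : x ∈ Y h s) (hy : y ∈ Y h (!s)) : x * y = y * x := by
  classical
  have hnorm : ∀ {t : Bool} {c : G} {σ : Bool → Equiv.Perm (Fin 5)}, Rel h c σ → ∀ a ∈ Y h t, c * a * c⁻¹ ∈ Y h t := by
    intro t c σ hc a ha
    refine mem_Y.2 ⟨comm_mul (comm_mul hc.comm (mem_Y.1 ha).1) (comm_inv hc.comm), fun w hw hwt => ?_⟩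
    have hw' : c⁻¹ * w * c ∈ Q := by simpa using h.ext.norm c⁻¹ (comm_inv hc.comm) w hw
    have hcd : cd (c⁻¹ * w * c) ∈ spn t := by
      have := hc.inv.act_spn hwt
      rwa [h.act_cd (comm_inv hc.comm) hw, inv_inv] at this
    have e := (mem_Y.1 ha).2 _ hw' hcd
    calc w * (c * a * c⁻¹) = c * ((c⁻¹ * w * c) * a) * c⁻¹ := by group
      _ = c * (a * (c⁻¹ * w * c)) * c⁻¹ := by rw [e]
      _ = _ := by group
  have hk : ∀ a ∈ Y h s, ∃ k, (k = 1 ∨ k = z) ∧ y * a * y⁻¹ = a * k := by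
    intro a ha
    obtain ⟨σ, hσ, hσs⟩ := Y_rel ha
    obtain ⟨τ, hτ, -⟩ := Y_rel hy
    refine ⟨a⁻¹ * (y * a * y⁻¹), ?_, by group⟩
    have k1 : a⁻¹ * (y * a * y⁻¹) ∈ Y h s := mul_mem (inv_mem ha) (hnorm hτ a ha)
    have k2 : a⁻¹ * (y * a * y⁻¹) ∈ Y h (!s) := by
      rw [show a⁻¹ * (y * a * y⁻¹) = (a⁻¹ * y * a⁻¹⁻¹) * y⁻¹ by group]
      exact mul_mem (hnorm hσ.inv y hy) (inv_mem hy)
    obtain ⟨ρ, hρ, hρs⟩ := Y_rel k1
    obtain ⟨ρ', hρ', hρs'⟩ := Y_rel k2
    obtain rfl := hρ.unique hρ'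
    rw [show ρ = 1 from funext fun t => by
      by_cases e : t = s
      · subst e; exact hρs
      · obtain rfl : t = !s := by cases t <;> cases s <;> simp_all
        exact hρs'] at hρ
    have hq := hρ.mem_Q
    refine (h.ker _ hq).1 ?_
    refine spn_inter (s := !s) ((bq_perp (h.lt _ hq)).2 fun i => ?_) ?_
    · have hp : pt s i < 2 ^ K8.n := pt_lt s i
      have := (h.commute_iff (h.rep_mem _) hq).1 ((mem_Y.1 k1).2 _ (h.rep_mem _) (by rw [h.cd_rep hp]; exact pt_spn s i))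
      rwa [h.cd_rep hp] at this
    · refine (bq_perp (h.lt _ hq)).2 fun i => ?_
      have hp : pt (!s) i < 2 ^ K8.n := pt_lt _ i
      have := (h.commute_iff (h.rep_mem _) hq).1 ((mem_Y.1 k2).2 _ (h.rep_mem _) (by rw [h.cd_rep hp]; exact pt_spn _ i))
      rwa [h.cd_rep hp] at this
  have hle : ⁅Y h s, Y h s⁆ ≤ Subgroup.centralizer ({y} : Set G) := Subgroup.commutator_le.2 fun a ha b hb => by
    obtain ⟨ka, hka, ea⟩ := hk a ha
    obtain ⟨kb, hkb, eb⟩ := hk b hb
    rw [Subgroup.mem_centralizer_singleton_iff]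
    have hcen : ∀ {k}, (k = 1 ∨ k = z) → ∀ {u}, u ∈ Y h s → k * u = u * k := by
      rintro k (rfl | rfl) u hu
      · simp
      · exact (mem_Y.1 hu).1.symm
    have e : y * ⁅a, b⁆ * y⁻¹ = ⁅a, b⁆ := by
      rw [commutatorElement_def, show y * (a * b * a⁻¹ * b⁻¹) * y⁻¹ =
        (y * a * y⁻¹) * (y * b * y⁻¹) * (y * a * y⁻¹)⁻¹ * (y * b * y⁻¹)⁻¹ by group, ea, eb]
      calc a * ka * (b * kb) * (a * ka)⁻¹ * (b * kb)⁻¹ = a * (ka * b) * (kb * ka⁻¹) * a⁻¹ * kb⁻¹ * b⁻¹ := by group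
        _ = a * b * (ka * kb * ka⁻¹) * a⁻¹ * kb⁻¹ * b⁻¹ := by rw [hcen hka hb]; group
        _ = a * b * kb * a⁻¹ * kb⁻¹ * b⁻¹ := by
          rcases hka with rfl | rfl
          · simp
          · rcases hkb with rfl | rfl <;> simp
        _ = a * b * (kb * a⁻¹) * kb⁻¹ * b⁻¹ := by group
        _ = a * b * (a⁻¹ * kb) * kb⁻¹ * b⁻¹ := by rw [hcen hkb (inv_mem ha)]
        _ = _ := by group
    exact (mul_inv_eq_iff_eq_mul.1 e).symm
  rw [perfect_Y h hQ hcard] at hle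
  exact Subgroup.mem_centralizer_singleton_iff.1 (hle hx)

end Cfsg.Agent.Invol.Co1.Five
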