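import Cfsg.Prelude
import Cfsg.Agent.Lib.Grp.Components

/-!
# Moving the layer of a centralizer along an automorphism
-/

set_option autoImplicit false

namespace Cfsg.Agent.Invol.Co1.Five

variable {G : Type*} [Group G]

theorem layer_transport (e : G ≃* G) (M : Subgroup G) :
    Cfsg.layer ↥(M.map (e : G →* G)) = (Cfsg.layer ↥M).map (e.subgroupMap M).toMonoidHom := by
  refine le_antisymm (fun u hu => ?_) (Grp.layer_map_le _)
  exact ⟨(e.subgroupMap M).symm u, Grp.layer_map_le (e.subgroupMap M).symm ⟨u, hu, rfl⟩, MulEquiv.apply_symm_apply _ u⟩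

theorem layer_map_subtype (e : G ≃* G) (M : Subgroup G) :
    (Cfsg.layer ↥(M.map (e : G →* G))).map (Subgroup.subtype _) =
      ((Cfsg.layer ↥M).map M.subtype).map (e : G →* G) := by
  rw [layer_transport, Subgroup.map_map, Subgroup.map_map]
  rfl

theorem centralizer_map (e : G ≃* G) (X : Subgroup G) :
    Subgroup.centralizer ((X.map (e : G →* G) : Subgroup G) : Set G) =
      (Subgroup.centralizer (X : Set G)).map (e : G →* G) := by
  ext y
  constructor
  · intro hy
    refine ⟨e.symm y, Subgroup.mem_centralizer_iff.2 fun x hx => e.injective ?_, e.apply_symm_apply y⟩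
    rw [map_mul, map_mul, e.apply_symm_apply]
    exact Subgroup.mem_centralizer_iff.1 hy _ ⟨x, hx, rfl⟩
  · rintro ⟨u, hu, rfl⟩
    refine Subgroup.mem_centralizer_iff.2 ?_
    rintro _ ⟨x, hx, rfl⟩
    simp only [MonoidHom.coe_coe, ← map_mul, Subgroup.mem_centralizer_iff.1 hu x hx]

theorem transport {A : Type*} [Group A] (c b : G)
    (H : Cfsg.Spor.IsoJ2 ↥(Cfsg.layer ↥(Subgroup.centralizer ({c * b * c⁻¹} : Set G))) ∧
      Nonempty (↥(Subgroup.centralizer (((Cfsg.layer ↥(Subgroup.centralizer ({c * b * c⁻¹} : Set G))).map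
        (Subgroup.subtype _)) : Set G)) ≃* A)) :
    Cfsg.Spor.IsoJ2 ↥(Cfsg.layer ↥(Subgroup.centralizer ({b} : Set G))) ∧
      Nonempty (↥(Subgroup.centralizer (((Cfsg.layer ↥(Subgroup.centralizer ({b} : Set G))).map
        (Subgroup.subtype _)) : Set G)) ≃* A) := by
  have hM : Subgroup.centralizer ({c * b * c⁻¹} : Set G) =
      (Subgroup.centralizer ({b} : Set G)).map ((MulAut.conj c : G ≃* G) : G →* G) := by
    have := centralizer_map (MulAut.conj c) (Subgroup.zpowers b)
    rwa [MonoidHom.map_zpowers, Subgroup.zpowers_eq_closure, Subgroup.zpowers_eq_closure, Subgroup.centralizer_closure,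
      Subgroup.centralizer_closure] at this
  rw [hM] at H
  obtain ⟨⟨eJ⟩, ⟨eA⟩⟩ := H
  rw [layer_map_subtype, centralizer_map] at eA
  refine ⟨⟨((MulEquiv.subgroupMap ((MulAut.conj c).subgroupMap (Subgroup.centralizer ({b} : Set G))) _).trans
    (MulEquiv.subgroupCongr (layer_transport (MulAut.conj c) _).symm)).trans eJ⟩, ⟨((MulAut.conj c).subgroupMap _).trans eA⟩⟩

end Cfsg.Agent.Invol.Co1.Five
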