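import Cfsg.Agent.Lib.Invol.Co1.Sep

/-!
# Two perpendicular elliptic solids and their five singular points
-/

set_option autoImplicit false
set_option maxRecDepth 100000

namespace Cfsg.Agent.Invol.Co1.Five

open Cfsg.Agent.Classical.BinCoc Cfsg.Agent.Invol.Big Cfsg.Agent.Invol.Big.Code

/-- The singular points of the two solids. -/
def pp (s : Bool) : List ℕ := if s then [1, 16, 59, 153, 179] else [4, 64, 102, 206, 236]

/-- A singular point. -/
def pt (s : Bool) (i : Fin 5) : ℕ := (pp s).getD i.val 0

/-- A solid. -/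
def spn (s : Bool) : List ℕ := sp ((pp s).take 4)

/-- Reflections realizing a permutation of the points of a solid. -/
def go (s : Bool) : List (Fin 5) → Equiv.Perm (Fin 5) → List ℕ
  | [], _ => []
  | k :: ks, σ => if σ k = k then go s ks σ else (pt s k ^^^ pt s (σ k)) :: go s ks (Equiv.swap k (σ k) * σ)

/-- The word of a permutation. -/
def word (s : Bool) (σ : Equiv.Perm (Fin 5)) : List ℕ := go s [0, 1, 2, 3] σ

/-- The word of a pair of permutations. -/
def pw (σ : Bool → Equiv.Perm (Fin 5)) : List ℕ := word true (σ true) ++ word false (σ false)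

/-- A word exchanging the solids. -/
def swapW : List ℕ := [42, 17, 25, 49, 57, 47, 122, 127]

theorem word_ok : ∀ (s : Bool) (σ : Equiv.Perm (Fin 5)),
    ((word s σ).all fun x => K8.q x && decide (x < 256)) = true ∧
      ((word s σ).length % 2 = if Equiv.Perm.sign σ = 1 then 0 else 1) ∧
      ∀ i, wd K8 (word s σ) (pt s i) = pt s (σ i) ∧ wd K8 (word s σ) (pt (!s) i) = pt (!s) i := by decide +kernel

theorem pp_ok : ∀ s : Bool, (pp s).Nodup ∧ (pp s).length = 5 ∧
    ∀ i, pt s i < 256 ∧ K8.q (pt s i) = false ∧ (spn s).contains (pt s i) = true := by decide +kernel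

theorem cover_ok : (List.range 256).all (fun a => (sp ((pp true).take 4 ++ (pp false).take 4)).contains a) = true := by
  decide +kernel

theorem inter_ok : (List.range 256).all (fun a => !((spn true).contains a && (spn false).contains a) || a == 0) = true := by
  decide +kernel

theorem sing_ok : ∀ s : Bool, ((spn s).all fun v => decide (v < 256) && (v == 0 || K8.q v || (pp s).contains v)) = true := by
  decide +kernel

theorem perp_ok : ∀ s : Bool, ((List.range 256).all fun v => ((pp s).all fun u => !bq K8 u v) == (spn (!s)).contains v) = true := by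
  decide +kernel

theorem swap_ok : Wok K8 swapW = true ∧ ∀ (s : Bool) (i : Fin 5), wd K8 swapW (pt s i) = pt (!s) i := by
  rw [wok_eq]
  decide +kernel

theorem five_ok : ∀ (s : Bool) (σ : Equiv.Perm (Fin 5)), σ ^ 5 = 1 → σ ≠ 1 → Equiv.Perm.sign σ = 1 ∧
    (List.range 256).all (fun a => ((wd K8 (word (!s) σ) a == a) == (spn s).contains a) &&
      (spn (!s)).contains (wd K8 (word (!s) σ) a ^^^ a)) = true ∧
    ((spn (!s)).all fun v => (spn (!s)).any fun u => u ^^^ wd K8 (word (!s) σ) u == v) = true := by decide +kernel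

theorem five_trans : ∀ σ : Equiv.Perm (Fin 5), σ ^ 5 = 1 → σ ≠ 1 → ∀ j, ∃ i : Fin 5, (σ ^ i.val) 0 = j := by
  decide +kernel

theorem centralize_five (σ τ : Equiv.Perm (Fin 5)) (h5 : σ ^ 5 = 1) (hne : σ ≠ 1) (hc : τ * σ = σ * τ) :
    ∃ i : Fin 5, τ = σ ^ i.val := by
  obtain ⟨i, hi⟩ := five_trans σ h5 hne (τ 0)
  refine ⟨i, Equiv.ext fun x => ?_⟩
  obtain ⟨k, rfl⟩ := five_trans σ h5 hne x
  have e := DFunLike.congr_fun ((show Commute τ σ from hc).pow_right k.val).eq 0
  simp only [Equiv.Perm.mul_apply] at e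
  rw [e, ← hi, ← Equiv.Perm.mul_apply, ← Equiv.Perm.mul_apply, pow_mul_comm]

theorem rank_one_ok : (rs.all fun w => el.all fun l =>
    bt (fun a => tE w (wd K8 (lw l) a)) == bt id ||
      (List.range 8).any fun i => (List.range 8).any fun j =>
        let u := tE w (wd K8 (lw l) (2 ^ i)) ^^^ 2 ^ i
        let v := tE w (wd K8 (lw l) (2 ^ j)) ^^^ 2 ^ j
        u != 0 && v != 0 && u != v) = true := by decide +kernel

end Cfsg.Agent.Invol.Co1.Five
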